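import Cfsg.Agent.SteinbergSLn.Subgroups
import Cfsg.Agent.Linear.Perfect

/-!
# Transvections, permutation matrices and blocks in `SL`
-/

set_option autoImplicit false

namespace CfsgLib.SLnPres

open Matrix

variable {ι F : Type*} [Fintype ι] [DecidableEq ι] [Field F]

/-- The transvection at `(i, j)`, and `1` on the diagonal. -/
def tv (i j : ι) (t : F) : Matrix.SpecialLinearGroup ι F :=
  if h : i = j then 1 else Matrix.SpecialLinearGroup.transvection h t

theorem coe_tv {i j : ι} (h : i ≠ j) (t : F) :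
    ((tv i j t : Matrix.SpecialLinearGroup ι F) : Matrix ι ι F) = Matrix.transvection i j t := by
  rw [tv, dif_neg h]; rfl

/-- The matrix of an element. -/
def toMat (ι F : Type*) [Fintype ι] [DecidableEq ι] [Field F] : Matrix.SpecialLinearGroup ι F →* Matrix ι ι F where
  toFun g := g
  map_one' := rfl
  map_mul' _ _ := rfl

theorem transvection_mul {i j k l : ι} (hjk : j ≠ k) (t u : F) :
    Matrix.transvection i j t * Matrix.transvection k l u = 1 + single i j t + single k l u := by
  simp [Matrix.transvection, mul_add, add_mul, single_mul_single_of_ne _ _ _ _ hjk]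

/-- `SL` satisfies the Steinberg relations. -/
theorem stRel_SL (h3 : ∀ i j : ι, ∃ k, k ≠ i ∧ k ≠ j) :
    SteinbergSLn.StRel (tv : ι → ι → F → Matrix.SpecialLinearGroup ι F) (toMat ι F) := by
  refine ⟨h3, fun i j h t u => ?_, fun i j k l hij hkl hil hjk t u => ?_, fun i j l hij hjl hil t u => ?_,
    fun i j h t => coe_tv h t⟩
  · simp only [tv, dif_neg h]; exact Matrix.SpecialLinearGroup.transvection_add h t u
  · rw [Commute, SemiconjBy]
    apply Subtype.ext
    rw [Matrix.SpecialLinearGroup.coe_mul, Matrix.SpecialLinearGroup.coe_mul, coe_tv hij, coe_tv hkl,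
      transvection_mul hjk, transvection_mul (Ne.symm hil)]
    abel
  · simp only [tv, dif_neg hij, dif_neg hjl, dif_neg hil]
    exact (commutatorElement_def _ _).symm.trans (CfsgLib.Linear.commutator_transvection hil hij hjl t u)

theorem tv_zero (i j : ι) : tv i j (0 : F) = 1 := by
  unfold tv; split_ifs <;> simp

/-- Permutation matrices of even permutations. -/
def permMat : alternatingGroup ι →* Matrix.SpecialLinearGroup ι F where
  toFun σ := ⟨(σ : Equiv.Perm ι)⁻¹.permMatrix F, by
    rw [Matrix.det_permutation, map_inv, Equiv.Perm.mem_alternatingGroup.1 σ.2]; simp⟩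
  map_one' := by apply Subtype.ext; simp
  map_mul' σ τ := by
    apply Subtype.ext
    change ((σ : Equiv.Perm ι) * (τ : Equiv.Perm ι))⁻¹.permMatrix F =
      (σ : Equiv.Perm ι)⁻¹.permMatrix F * (τ : Equiv.Perm ι)⁻¹.permMatrix F
    rw [_root_.mul_inv_rev, Matrix.permMatrix_mul]

theorem coe_permMat (σ : alternatingGroup ι) (a b : ι) :
    (permMat σ : Matrix.SpecialLinearGroup ι F).1 a b = if (σ : Equiv.Perm ι) b = a then 1 else 0 := by
  show (σ : Equiv.Perm ι)⁻¹.permMatrix F a b = _
  simp only [Equiv.Perm.permMatrix, PEquiv.toMatrix_apply, Equiv.toPEquiv_apply, Option.mem_def, Option.some.injEq,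
    Equiv.Perm.inv_def, Equiv.symm_apply_eq]
  exact if_congr eq_comm rfl rfl

theorem permMat_tv (σ : alternatingGroup ι) (i j : ι) (hij : i ≠ j) (t : F) :
    permMat σ * tv i j t * (permMat σ)⁻¹ = tv ((σ : Equiv.Perm ι) i) ((σ : Equiv.Perm ι) j) t := by
  rw [mul_inv_eq_iff_eq_mul]
  apply Subtype.ext
  have hσ : (σ : Equiv.Perm ι) i ≠ (σ : Equiv.Perm ι) j := (σ : Equiv.Perm ι).injective.ne hij
  rw [Matrix.SpecialLinearGroup.coe_mul, Matrix.SpecialLinearGroup.coe_mul, coe_tv hij, coe_tv hσ]
  simp only [Matrix.transvection, mul_add, add_mul, mul_one, one_mul]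
  congr 1
  ext a b
  by_cases hb : b = j
  · subst hb
    rw [Matrix.mul_single_apply_same]
    by_cases ha : a = (σ : Equiv.Perm ι) i
    · subst ha; rw [Matrix.single_mul_apply_same, coe_permMat, coe_permMat]; simp
    · rw [Matrix.single_mul_apply_of_ne _ _ _ _ _ ha, coe_permMat, if_neg (Ne.symm ha), zero_mul]
  · rw [Matrix.mul_single_apply_of_ne _ _ _ _ _ hb]
    by_cases ha : a = (σ : Equiv.Perm ι) i
    · subst ha
      rw [Matrix.single_mul_apply_same, coe_permMat, if_neg ((σ : Equiv.Perm ι).injective.ne hb), mul_zero]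
    · rw [Matrix.single_mul_apply_of_ne _ _ _ _ _ ha]

variable {κ : Type*} [Fintype κ] [DecidableEq κ]

/-- The upper left block. -/
def blockEmb : Matrix.SpecialLinearGroup κ F →* Matrix.SpecialLinearGroup (κ ⊕ ι) F where
  toFun g := ⟨Matrix.fromBlocks g.1 0 0 1, by rw [Matrix.det_fromBlocks_zero₂₁, g.2, Matrix.det_one, mul_one]⟩
  map_one' := by apply Subtype.ext; exact Matrix.fromBlocks_one
  map_mul' g h := by
    apply Subtype.ext
    change Matrix.fromBlocks (g.1 * h.1) 0 0 1 = Matrix.fromBlocks g.1 0 0 1 * Matrix.fromBlocks h.1 0 0 1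
    simp [Matrix.fromBlocks_multiply]

theorem blockEmb_tv {i j : κ} (h : i ≠ j) (t : F) :
    (blockEmb (tv i j t) : Matrix.SpecialLinearGroup (κ ⊕ ι) F) = tv (Sum.inl i) (Sum.inl j) t := by
  apply Subtype.ext
  rw [coe_tv (fun e => h (Sum.inl.inj e))]
  show Matrix.fromBlocks (tv i j t).1 0 0 1 = _
  rw [coe_tv h]
  ext (a | a) (b | b) <;> simp [Matrix.transvection, Matrix.single_apply, Matrix.one_apply]

end CfsgLib.SLnPres
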