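import Cfsg.Agent.SLnPres.Cases
import Cfsg.Agent.BoundedAlt.Final
import Cfsg.Agent.PresLib.Quotient

/-!
# Bounded presentations of `SLₙ` and `PSLₙ`
-/

set_option autoImplicit false
set_option maxRecDepth 8000

namespace CfsgLib.SLnPres

open CfsgLib.BoundedAlt CfsgLib.SL2Pres CfsgLib.SL3Pres

variable {F : Type*} [Field F] [Fintype F]

/-- Reindexing of alternating groups. -/
noncomputable def altEquiv {α β : Type*} [Fintype α] [DecidableEq α] [Fintype β] [DecidableEq β] (c : α ≃ β) :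
    alternatingGroup α ≃* alternatingGroup β :=
  ((alternatingGroup α).equivMapOfInjective c.permCongrHom.toMonoidHom c.permCongrHom.injective).trans
    (MulEquiv.subgroupCongr (by simpa [tgt] using map_tgt c 1))

theorem alt_pres_small {r : ℕ} (hr : 1 ≤ r) (hr3 : r ≤ 3) :
    ∃ rels : Finset (FreeGroup (Fin 2)), rels.card ≤ r + 2 ∧
      Nonempty (PresentedGroup (↑rels : Set (FreeGroup (Fin 2))) ≃* alternatingGroup (Idx r)) := by
  have h : ∀ (A : Equiv.Perm (Fin (r + 1) ⊕ Fin 2)), A ∈ alternatingGroup _ →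
      (∀ i : Fin (r + 1), altTwoWord (r + 1) i A (star3 (Fin (r + 1)) 0) = star3 (Fin (r + 1)) i) →
      ∃ rels : Finset (FreeGroup (Fin 2)), rels.card ≤ r + 2 ∧
        Nonempty (PresentedGroup (↑rels : Set (FreeGroup (Fin 2))) ≃* alternatingGroup (Idx r)) := by
    intro A hA hs
    obtain ⟨rels, hc, ⟨e⟩⟩ := exists_altTwo (r + 1) (by omega) A hA hs
    exact ⟨rels, hc, ⟨e.trans (altEquiv (finSumFinEquiv.trans
      ((finCongr (by omega : r + 1 + 2 = 3 + r)).trans finSumFinEquiv.symm)))⟩⟩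
  interval_cases r
  · exact h (Equiv.sumCongr (finRotate 2) (Equiv.swap 0 1)) (by rw [Equiv.Perm.mem_alternatingGroup]; decide)
      (by unfold altTwoWord altExp star3 cyc3; decide)
  · exact h (Equiv.sumCongr (finRotate 3) 1) (by rw [Equiv.Perm.mem_alternatingGroup]; decide)
      (by unfold altTwoWord altExp star3 cyc3; decide)
  · exact h (Equiv.sumCongr (finRotate 4) (Equiv.swap 0 1)) (by rw [Equiv.Perm.mem_alternatingGroup]; decide)
      (by unfold altTwoWord altExp star3 cyc3; decide)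

theorem alt_pres_large {r : ℕ} (hr : 4 ≤ r) :
    ∃ rels : Finset (FreeGroup (Fin 3)), rels.card ≤ 7 ∧
      Nonempty (PresentedGroup (↑rels : Set (FreeGroup (Fin 3))) ≃* alternatingGroup (Idx r)) := by
  obtain ⟨rels, hc, f, -⟩ := exists_large (n := 3 + r) (by omega) (e := 1) (Or.inl rfl)
  exact ⟨rels, hc, ⟨(f.trans (tgtOne (3 + r))).trans (altEquiv finSumFinEquiv.symm)⟩⟩

/-- A move of the first two points to the last block. -/
def tauR (r : ℕ) (hr : 2 ≤ r) : alternatingGroup (Idx r) :=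
  ⟨Equiv.swap (Sum.inl 0) (Sum.inr ⟨0, by omega⟩) * Equiv.swap (Sum.inl 1) (Sum.inr ⟨1, by omega⟩), by
    rw [Equiv.Perm.mem_alternatingGroup, map_mul, Equiv.Perm.sign_swap (by simp), Equiv.Perm.sign_swap (by simp)]
    decide⟩

theorem tauR_spec (r : ℕ) (hr : 2 ≤ r) :
    ∀ a : Fin 3, a = 0 ∨ a = 1 → ∃ i, (tauR r hr : Equiv.Perm (Idx r)) (Sum.inl a) = Sum.inr i := by
  rintro a (rfl | rfl)
  · exact ⟨⟨0, by omega⟩, by simp [tauR, Equiv.swap_apply_def]⟩
  · exact ⟨⟨1, by omega⟩, by simp [tauR, Equiv.swap_apply_def]⟩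

/-- A stabilizer of two points from a rich subgroup on the rest. -/
theorem stab_of_rich {r : ℕ} (M : Subgroup (alternatingGroup (Idx r)))
    (h : Rich (M.map (alternatingGroup (Idx r)).subtype) {z : Idx r | z ≠ Sum.inl 0 ∧ z ≠ Sum.inl 1})
    (σ : alternatingGroup (Idx r)) (h0 : (σ : Equiv.Perm (Idx r)) (Sum.inl 0) = Sum.inl 0)
    (h1 : (σ : Equiv.Perm (Idx r)) (Sum.inl 1) = Sum.inl 1) : σ ∈ M := by
  obtain ⟨σ', hσ', e⟩ := h.mem (Equiv.Perm.mem_alternatingGroup.1 σ.2) fun z hz => by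
    simp only [Set.mem_ofPred_eq, not_and_or, not_not] at hz
    rcases hz with rfl | rfl <;> assumption
  rwa [← Subtype.ext e]

/-- A cycle in the kernel of the projection. -/
def cy {r : ℕ} (a b c : Idx r) (hab : a ≠ b) (hbc : b ≠ c) : alternatingGroup (Idx r) :=
  ⟨cyc3 a b c, Equiv.Perm.mem_alternatingGroup.2 (sign_cyc3 a b c hab hbc)⟩

/-- The five cycle in degree seven. -/
def five : alternatingGroup (Idx 4) :=
  ⟨cyc3 (Sum.inl 2) (Sum.inr 0) (Sum.inr 1) * cyc3 (Sum.inr 1) (Sum.inr 2) (Sum.inr 3), by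
    rw [Equiv.Perm.mem_alternatingGroup]; decide⟩

theorem exists_SL_parts (p : ℕ) [Fact p.Prime] [Algebra (ZMod p) F] {r : ℕ} (hr : 1 ≤ r) :
    ∃ (m N : ℕ) (rels : Finset (FreeGroup (Fin (3 + m)))),
      ((r ≤ 3 ∧ m = 2 ∧ ((r = 1 ∧ N = 20) ∨ (r = 2 ∧ N = 21) ∨ (r = 3 ∧ N = 23))) ∨ (4 ≤ r ∧ m = 3 ∧ N = 24)) ∧
      rels.card ≤ N ∧
      Nonempty (PresentedGroup (↑rels : Set (FreeGroup (Fin (3 + m)))) ≃* Matrix.SpecialLinearGroup (Fin (3 + r)) F) := by
  obtain ⟨ω, hω, hgenω, rels3, hc3, hgc, e3, he3⟩ := exists_presentation_gens (F := F) p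
  obtain ⟨y, hy⟩ := exists_y p ω hω hgenω
  have h5 : ∀ {r m a : ℕ} (hr2 : 2 ≤ r) (relsA : Finset (FreeGroup (Fin m))), relsA.card ≤ a →
      ∀ (eA : PresentedGroup (↑relsA : Set (FreeGroup (Fin m))) ≃* alternatingGroup (Idx r))
      (π : Equiv.Perm (Fin r)) (hπ : Equiv.Perm.sign π = -1) (S T : List (alternatingGroup (Idx r))),
      (∀ s ∈ S, (s : Equiv.Perm (Idx r)) (Sum.inl 0) = Sum.inl 0 ∧ (s : Equiv.Perm (Idx r)) (Sum.inl 1) = Sum.inl 1) →
      (∀ t ∈ T, ∀ a : Fin 3, (t : Equiv.Perm (Idx r)) (Sum.inl a) = Sum.inl a) →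
      (∀ M : Subgroup (alternatingGroup (Idx r)), (∀ s ∈ S, s ∈ M) → (∀ t ∈ T, t ∈ M) →
        swapG π hπ * swapG π hπ ∈ M →
        Rich (M.map (alternatingGroup (Idx r)).subtype) {z : Idx r | z ≠ Sum.inl 0 ∧ z ≠ Sum.inl 1}) →
      ∃ rels : Finset (FreeGroup (Fin (3 + m))), rels.card ≤ 13 + a + (2 + T.length + 2 * S.length) ∧
        Nonempty (PresentedGroup (↑rels : Set (FreeGroup (Fin (3 + m)))) ≃* Matrix.SpecialLinearGroup (Fin (3 + r)) F) := by
    intro r m a hr2 relsA hA eA π hπ S T hS hT hrich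
    obtain ⟨rels, hc, he⟩ := exists_of_parts p (by omega) relsA eA ω rels3 hc3 hgc e3 he3
      (glueList ω y (swapG π hπ) S T (tauR r hr2))
      (valid_five ω y π hπ S T hS hT _ (tauR_spec r hr2))
      (enough_five p hω hy π hπ S T hT (fun M a b c => stab_of_rich M (hrich M a b c)) _ (tauR_spec r hr2))
    refine ⟨rels, hc.trans ?_, he⟩
    simp [glueList]
    omega
  rcases Nat.lt_or_ge r 4 with hr4 | hr4
  · obtain ⟨relsA, hA, ⟨eA⟩⟩ := alt_pres_small hr (show r ≤ 3 by omega)
    interval_cases r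
    · obtain ⟨rels, hc, he⟩ := exists_of_parts p le_rfl relsA eA ω rels3 hc3 hgc e3 he3 (glueFour ω) (valid_four ω)
        (enough_four p hω)
      exact ⟨2, 20, rels, Or.inl ⟨by norm_num, rfl, Or.inl ⟨rfl, rfl⟩⟩, hc.trans (by simp [glueFour]; omega), he⟩
    · obtain ⟨rels, hc, he⟩ := h5 le_rfl relsA hA eA (Equiv.swap 0 1) (Equiv.Perm.sign_swap (by decide))
        [cy (Sum.inl 2) (Sum.inr 0) (Sum.inr 1) (by decide) (by decide)] []
        (by simp [cy, cyc3, Equiv.swap_apply_def]) (by simp) (fun M hS _ _ => by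
          refine rich_of_star (u := Sum.inr 0) (v := Sum.inr 1) (by decide) (by simp) (by simp) ?_
          intro i hi hu hv
          have : i = Sum.inl 2 := by
            revert i; decide
          subst this
          exact ⟨_, hS _ (List.mem_cons_self ..), rfl⟩)
      exact ⟨2, 21, rels, Or.inl ⟨by norm_num, rfl, Or.inr (Or.inl ⟨rfl, rfl⟩)⟩, hc.trans (by simp), he⟩
    · obtain ⟨rels, hc, he⟩ := h5 (by norm_num) relsA hA eA (Equiv.swap 0 1) (Equiv.Perm.sign_swap (by decide))
        [cy (Sum.inl 2) (Sum.inr 0) (Sum.inr 1) (by decide) (by decide)]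
        [cy (Sum.inr 0) (Sum.inr 1) (Sum.inr 2) (by decide) (by decide)]
        (by simp [cy, cyc3, Equiv.swap_apply_def])
        (by simp only [List.mem_singleton]; rintro t rfl a; fin_cases a <;> simp [cy, cyc3, Equiv.swap_apply_def])
        (fun M hS hT _ => by
          have h1 : Rich (M.map (alternatingGroup (Idx 3)).subtype) ({Sum.inl 2, Sum.inr 0, Sum.inr 1} : Set (Idx 3)) := by
            refine rich_of_star (u := Sum.inr 0) (v := Sum.inr 1) (by decide) (by simp) (by simp) ?_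
            rintro i (rfl | rfl | rfl) hu hv
            · exact ⟨_, hS _ (List.mem_cons_self ..), rfl⟩
            · exact absurd rfl hu
            · exact absurd rfl hv
          have h2 : Rich (M.map (alternatingGroup (Idx 3)).subtype) ({Sum.inr 0, Sum.inr 1, Sum.inr 2} : Set (Idx 3)) := by
            refine rich_of_star (u := Sum.inr 1) (v := Sum.inr 2) (by decide) (by simp) (by simp) ?_
            rintro i (rfl | rfl | rfl) hu hv
            · exact ⟨_, hT _ (List.mem_cons_self ..), rfl⟩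
            · exact absurd rfl hu
            · exact absurd rfl hv
          refine (h1.union h2 (u := Sum.inr 0) (v := Sum.inr 1) (by decide) (by simp) (by simp)).mono ?_
          intro z hz
          simp only [Set.mem_union, Set.mem_insert_iff, Set.mem_singleton_iff]
          simp only [Set.mem_ofPred_eq] at hz
          revert z; decide)
      exact ⟨2, 23, rels, Or.inl ⟨le_rfl, rfl, Or.inr (Or.inr ⟨rfl, rfl⟩)⟩, hc.trans (by simp), he⟩
  · obtain ⟨relsA, hA, ⟨eA⟩⟩ := alt_pres_large hr4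
    rcases Nat.eq_or_lt_of_le hr4 with rfl | hr5
    · obtain ⟨rels, hc, he⟩ := h5 (by norm_num) relsA hA eA (finRotate 4) (by decide) [five] []
        (by simp only [List.mem_singleton]; rintro s rfl; decide) (by simp) (fun M hS _ hg => by
          set N := M.map (alternatingGroup (Idx 4)).subtype
          have hb : (five : Equiv.Perm (Idx 4)) ∈ N := ⟨_, hS _ (List.mem_cons_self ..), rfl⟩
          have ha : ((swapG (finRotate 4) (by decide) * swapG (finRotate 4) (by decide) : alternatingGroup (Idx 4)) :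
              Equiv.Perm (Idx 4)) ∈ N := ⟨_, hg, rfl⟩
          have h3 : cyc3 (Sum.inl 2) (Sum.inr 0) (Sum.inr 1) ∈ N := by
            have e : ((swapG (finRotate 4) (by decide) * swapG (finRotate 4) (by decide) : alternatingGroup (Idx 4)) :
              Equiv.Perm (Idx 4)) * (five : Equiv.Perm (Idx 4)) * (five : Equiv.Perm (Idx 4)) * (five : Equiv.Perm (Idx 4)) =
                cyc3 (Sum.inl 2) (Sum.inr 0) (Sum.inr 1) := by decide
            rw [← e]; exact mul_mem (mul_mem (mul_mem ha hb) hb) hb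
          have hS3 : Rich N ({Sum.inl 2, Sum.inr 0, Sum.inr 1} : Set (Idx 4)) := by
            refine rich_of_star (u := Sum.inr 0) (v := Sum.inr 1) (by decide) (by simp) (by simp) ?_
            rintro i (rfl | rfl | rfl) hu hv
            · exact h3
            · exact absurd rfl hu
            · exact absurd rfl hv
          have e0 : (five : Equiv.Perm (Idx 4)) (Sum.inl 2) = Sum.inr 0 := by decide
          have e1 : (five : Equiv.Perm (Idx 4)) (Sum.inr 0) = Sum.inr 1 := by decide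
          refine (hS3.orbit (fun x hx => mul_mem (mul_mem hb hx) (inv_mem hb)) (u := Sum.inl 2) (v := Sum.inr 0)
            (by decide) (by simp) (by simp) (by simp [e0]) (by simp [e1])).mono ?_
          intro z hz
          simp only [Set.mem_ofPred_eq] at hz ⊢
          have key : ∀ z : Idx 4, z ≠ Sum.inl 0 ∧ z ≠ Sum.inl 1 → ∃ j : Fin 5,
              ((five : Equiv.Perm (Idx 4)) ^ (j : ℕ)) (Sum.inl 2) = z := by decide
          obtain ⟨j, hj⟩ := key z hz
          exact ⟨j, _, by simp, hj⟩)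
      exact ⟨3, 24, rels, Or.inr ⟨le_rfl, rfl, rfl⟩, hc.trans (by simp), he⟩
    · -- a transposition and a three-cycle
      let i : Fin 5 → Fin r := fun k => ⟨k, by omega⟩
      have hi : Function.Injective i := fun a b e => Fin.ext (by simpa [i] using e)
      set π : Equiv.Perm (Fin r) := Equiv.swap (i 0) (i 1) * cyc3 (i 2) (i 3) (i 4) with hπdef
      have hπ : Equiv.Perm.sign π = -1 := by
        rw [hπdef, map_mul, sign_cyc3 _ _ _ (hi.ne (by decide)) (hi.ne (by decide)),
          Equiv.Perm.sign_swap (hi.ne (by decide))]; decide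
      let q : Idx r := Sum.inr (i 2)
      let u : Idx r := Sum.inr (i 4)
      let v : Idx r := Sum.inr (i 3)
      set l := ((Finset.univ : Finset (Idx r)) \ {Sum.inl 0, Sum.inl 1, q, u, v}).toList
      have hne : ∀ a b : Fin 5, a ≠ b → (Sum.inr (i a) : Idx r) ≠ Sum.inr (i b) := fun a b h => Sum.inr_injective.ne (hi.ne h)
      have hl : (v :: u :: q :: l).Nodup := by
        simp [List.nodup_cons, l, Finset.nodup_toList, q, u, v, hi.eq_iff]
      have hno : ∀ a : Fin 3, a = 0 ∨ a = 1 → (Sum.inl a : Idx r) ∉ v :: u :: q :: l := by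
        rintro a (rfl | rfl) <;> simp [l, q, u, v]
      let s : alternatingGroup (Idx r) := ⟨longCycle u v q l (l.length + 1), by
        rw [Equiv.Perm.mem_alternatingGroup, sign_longCycle hl,
          show l.length + 1 + l.length + 1 = 2 * (l.length + 1) by ring, pow_mul]
        simp⟩
      obtain ⟨rels, hc, he⟩ := h5 (by omega) relsA hA eA π hπ [s] []
        (by simp only [List.mem_singleton]; rintro t rfl
            exact ⟨longCycle_fix hl _ (hno 0 (Or.inl rfl)), longCycle_fix hl _ (hno 1 (Or.inr rfl))⟩)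
        (by simp) (fun M hS _ hg => by
          set N := M.map (alternatingGroup (Idx r)).subtype
          have hb : (s : Equiv.Perm (Idx r)) ∈ N := ⟨_, hS _ (List.mem_cons_self ..), rfl⟩
          have hq : cyc3 q u v ∈ N := by
            refine ⟨_, hg, ?_⟩
            ext z : 1
            show Equiv.sumCongr (Equiv.swap 0 1) π (Equiv.sumCongr (Equiv.swap 0 1) π z) = cyc3 q u v z
            rcases z with a | k
            · simp [cyc3_apply_of_ne, q, u, v]
            · show Sum.inr (π (π k)) = _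
              have hh : ∀ a b : Fin 5, a ≠ b → i a ≠ i b := fun a b h => hi.ne h
              rw [hπdef, Equiv.Perm.mul_apply, Equiv.Perm.mul_apply]
              by_cases k0 : k = i 0
              · subst k0; simp [cyc3, q, u, v, Equiv.swap_apply_def, hi.eq_iff]
              by_cases k1 : k = i 1
              · subst k1; simp [cyc3, q, u, v, Equiv.swap_apply_def, hi.eq_iff]
              by_cases k2 : k = i 2
              · subst k2; simp [cyc3, q, u, v, Equiv.swap_apply_def, hi.eq_iff]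
              by_cases k3 : k = i 3
              · subst k3; simp [cyc3, q, u, v, Equiv.swap_apply_def, hi.eq_iff]
              by_cases k4 : k = i 4
              · subst k4; simp [cyc3, q, u, v, Equiv.swap_apply_def, hi.eq_iff]
              simp [cyc3, q, u, v, Equiv.swap_apply_def, k0, k1, k2, k3, k4]
          refine (rich_longCycle hl (l.length + 1) hq fun x hx => mul_mem (mul_mem hb hx) (inv_mem hb)).mono ?_
          intro z hz
          simp only [Set.mem_ofPred_eq, List.mem_cons, l, Finset.mem_toList, Finset.mem_sdiff, Finset.mem_univ,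
            true_and, Finset.mem_insert, Finset.mem_singleton] at hz ⊢
          tauto)
      exact ⟨3, 24, rels, Or.inr ⟨by omega, rfl, rfl⟩, hc.trans (by simp), he⟩

theorem exists_center_gen {n : ℕ} (hn : 1 ≤ n) :
    ∃ z : Matrix.SpecialLinearGroup (Fin n) F, Subgroup.normalClosure {z} = Subgroup.center _ := by
  have : NeZero n := ⟨by omega⟩
  have hr : IsCyclic (rootsOfUnity (Fintype.card (Fin n)) F) := rootsOfUnity.isCyclic F _
  let c := Matrix.SpecialLinearGroup.center_equiv_rootsOfUnity' (R := F) (0 : Fin n)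
  have hcyc : IsCyclic (Subgroup.center (Matrix.SpecialLinearGroup (Fin n) F)) :=
    isCyclic_of_injective c.toMonoidHom c.injective
  obtain ⟨g, hg⟩ := hcyc.exists_generator
  refine ⟨g, le_antisymm (Subgroup.normalClosure_le_normal (by simp)) fun a ha => ?_⟩
  obtain ⟨k, hk⟩ := hg ⟨a, ha⟩
  have : ((g : Matrix.SpecialLinearGroup (Fin n) F)) ^ k = a := by
    rw [← Subgroup.coe_zpow]; exact congrArg Subtype.val hk
  rw [← this]
  exact Subgroup.zpow_mem _ (Subgroup.subset_normalClosure (Set.mem_singleton _)) k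

theorem psl_of_sl {n k N : ℕ} (hn : 1 ≤ n) (rels : Finset (FreeGroup (Fin k))) (hc : rels.card ≤ N)
    (e : PresentedGroup (↑rels : Set (FreeGroup (Fin k))) ≃* Matrix.SpecialLinearGroup (Fin n) F) :
    ∃ rels' : Finset (FreeGroup (Fin k)), rels'.card ≤ N + 1 ∧
      Nonempty (PresentedGroup (↑rels' : Set (FreeGroup (Fin k))) ≃* Matrix.ProjectiveSpecialLinearGroup (Fin n) F) := by
  obtain ⟨z, hz⟩ := exists_center_gen (F := F) hn
  obtain ⟨w, hw⟩ := PresentedGroup.mk_surjective _ (e.symm z)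
  exact CfsgLib.PresLib.presentation_quotient rels N hc e _ w (by rw [hw, MulEquiv.apply_symm_apply, hz])

theorem presentations (p : ℕ) [Fact p.Prime] [Algebra (ZMod p) F] {n : ℕ} (hn : 4 ≤ n) :
    (∃ rels : Finset (FreeGroup (Fin 7)), rels.card ≤ 25 ∧
      Nonempty (PresentedGroup (↑rels : Set (FreeGroup (Fin 7))) ≃* Matrix.SpecialLinearGroup (Fin n) F)) ∧
    ∃ rels : Finset (FreeGroup (Fin 7)), rels.card ≤ 26 ∧
      Nonempty (PresentedGroup (↑rels : Set (FreeGroup (Fin 7))) ≃* Matrix.ProjectiveSpecialLinearGroup (Fin n) F) := by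
  obtain ⟨r, rfl⟩ : ∃ r, n = 3 + r := ⟨n - 3, by omega⟩
  obtain ⟨m, N, rels, hcase, hc, ⟨e⟩⟩ := exists_SL_parts (F := F) p (r := r) (by omega)
  suffices h : ∃ rels : Finset (FreeGroup (Fin 7)), rels.card ≤ 25 ∧
      Nonempty (PresentedGroup (↑rels : Set (FreeGroup (Fin 7))) ≃* Matrix.SpecialLinearGroup (Fin (3 + r)) F) by
    obtain ⟨R, hR, ⟨eR⟩⟩ := h
    exact ⟨⟨R, hR, ⟨eR⟩⟩, psl_of_sl (by omega) R hR eR⟩
  rcases hcase with ⟨-, rfl, hN⟩ | ⟨-, rfl, rfl⟩
  · obtain ⟨R, hR, ⟨eR⟩⟩ := retarget_pad rels hc e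
    obtain ⟨R', hR', he'⟩ := retarget_pad R hR eR
    exact ⟨R', by omega, he'⟩
  · obtain ⟨R, hR, he⟩ := retarget_pad rels hc e
    exact ⟨R, hR, he⟩

theorem presentations_four_five (p : ℕ) [Fact p.Prime] [Algebra (ZMod p) F] :
    (∃ rels : Finset (FreeGroup (Fin 6)), rels.card ≤ 21 ∧
      Nonempty (PresentedGroup (↑rels : Set (FreeGroup (Fin 6))) ≃* Matrix.SpecialLinearGroup (Fin 4) F)) ∧
    ∃ rels : Finset (FreeGroup (Fin 6)), rels.card ≤ 22 ∧
      Nonempty (PresentedGroup (↑rels : Set (FreeGroup (Fin 6))) ≃* Matrix.SpecialLinearGroup (Fin 5) F) := by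
  constructor
  · obtain ⟨m, N, rels, hcase, hc, ⟨e⟩⟩ := exists_SL_parts (F := F) p (r := 1) le_rfl
    rcases hcase with ⟨-, rfl, ⟨-, rfl⟩ | ⟨h, -⟩ | ⟨h, -⟩⟩ | ⟨h, -⟩ <;> try omega
    obtain ⟨R, hR, he⟩ := retarget_pad rels hc e
    exact ⟨R, hR, he⟩
  · obtain ⟨m, N, rels, hcase, hc, ⟨e⟩⟩ := exists_SL_parts (F := F) p (r := 2) (by norm_num)
    rcases hcase with ⟨-, rfl, ⟨h, -⟩ | ⟨-, rfl⟩ | ⟨h, -⟩⟩ | ⟨h, -⟩ <;> try omega
    obtain ⟨R, hR, he⟩ := retarget_pad rels hc e
    exact ⟨R, hR, he⟩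

end CfsgLib.SLnPres
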