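import Cfsg.Agent.SLnPres.Presentation
import Cfsg.Agent.BoundedAlt.Perms

/-!
# The gluing relations
-/

set_option autoImplicit false

namespace CfsgLib.SLnPres

open CfsgLib.BoundedAlt CfsgLib.SL2Pres CfsgLib.SL3Pres Polynomial IntermediateField

variable {F : Type*} [Field F] [Fintype F]

theorem sq_span (p : ℕ) [Fact p.Prime] [Algebra (ZMod p) F] {ω : Fˣ} (hω : orderOf ω = Fintype.card F - 1)
    (A : AddSubgroup F) (hA : ∀ i : ℕ, (ω : F) ^ (2 * i) ∈ A) (t : F) : t ∈ A := by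
  obtain ⟨Q, rfl⟩ := surjective_aeval_of_adjoin (adjoin_sq_eq_top (p := p) hω) t
  induction Q using Polynomial.induction_on' with
  | add Q R hQ hR => rw [map_add]; exact A.add_mem hQ hR
  | monomial n c =>
    rw [aeval_monomial, ← pow_mul, ← ZMod.natCast_zmod_val c, map_natCast, ← nsmul_eq_mul]
    exact A.nsmul_mem (hA n) _

omit [Fintype F] in
theorem hD_tv (a : Fˣ) (t : F) :
    emb (hD a) * tv 0 1 t * (emb (hD a))⁻¹ = (tv 0 1 ((a : F) ^ 2 * t) : Matrix.SpecialLinearGroup (Fin 3) F) := by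
  rw [← emb_xU_eq, ← emb_xU_eq, ← map_inv, ← map_mul, ← map_mul, hD_xU]

variable {r : ℕ} {G : Type*} [Group G] (ρ : Matrix.SpecialLinearGroup (Fin 3) F →* G)

/-- A homomorphism agreeing with the torus on `1` agrees on the whole root group. -/
theorem root_eq (p : ℕ) [Fact p.Prime] [Algebra (ZMod p) F] {ω : Fˣ} (hω : orderOf ω = Fintype.card F - 1)
    (f f' : Matrix.SpecialLinearGroup (Fin 3) F →* G) (h1 : f (tv 0 1 1) = f' (tv 0 1 1))
    (hh : f (emb (hD ω)) = f' (emb (hD ω))) (t : F) : f (tv 0 1 t) = f' (tv 0 1 t) := by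
  let A : AddSubgroup F :=
    { carrier := {s | f (tv 0 1 s) = f' (tv 0 1 s)}
      zero_mem' := by simp [tv_zero]
      add_mem' := fun {a b} ha hb => by
        simp only [Set.mem_ofPred_eq] at *
        rw [(stRel_SL (ι := Fin 3) (F := F) (by decide)).add 0 1 (by decide), map_mul, map_mul, ha, hb]
      neg_mem' := fun {a} ha => by
        simp only [Set.mem_ofPred_eq] at *
        rw [SteinbergSLn.neg (stRel_SL (ι := Fin 3) (F := F) (by decide)) (by decide), map_inv, map_inv, ha] }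
  refine sq_span p hω A (fun i => ?_) t
  show f _ = f' _
  induction i with
  | zero => simpa using h1
  | succ i ih =>
    rw [show (ω : F) ^ (2 * (i + 1)) = (ω : F) ^ 2 * (ω : F) ^ (2 * i) by ring, ← hD_tv, map_mul, map_mul, map_mul,
      map_mul, map_inv, map_inv, hh, ih]

variable {ρ} {ψ : alternatingGroup (Idx r) →* G}

theorem cyc_conj_swap {g : alternatingGroup (Idx r)} (g0 : (g : Equiv.Perm (Idx r)) (Sum.inl 0) = Sum.inl 1)
    (g1 : (g : Equiv.Perm (Idx r)) (Sum.inl 1) = Sum.inl 0) (g2 : (g : Equiv.Perm (Idx r)) (Sum.inl 2) = Sum.inl 2) :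
    g * cyc r * g⁻¹ = (cyc r)⁻¹ := by
  apply Subtype.ext
  rw [Subgroup.coe_mul, Subgroup.coe_mul, Subgroup.coe_inv, Subgroup.coe_inv, cyc_eq, cyc3_conj, g0, g1, g2,
    cyc3_inv (by simp) (by simp) (by simp), cyc3_rot (by simp) (by simp) (by simp)]

theorem act_swap {y : Matrix.SpecialLinearGroup (Fin 3) F} (hy : Subgroup.closure {y, cC} = ⊤)
    (hc : ρ cC = ψ (cyc r)) {g : alternatingGroup (Idx r)} (g0 : (g : Equiv.Perm (Idx r)) (Sum.inl 0) = Sum.inl 1)
    (g1 : (g : Equiv.Perm (Idx r)) (Sum.inl 1) = Sum.inl 0) (g2 : (g : Equiv.Perm (Idx r)) (Sum.inl 2) = Sum.inl 2)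
    (h : ψ g * ρ y * (ψ g)⁻¹ = ρ (θ y)) (z : Matrix.SpecialLinearGroup (Fin 3) F) :
    ψ g * ρ z * (ψ g)⁻¹ = ρ (θ z) := by
  have hcc : ψ g * ρ cC * (ψ g)⁻¹ = ρ (θ cC) := by
    rw [θ_cC, map_inv, hc, ← map_inv ψ g, ← map_mul, ← map_mul, cyc_conj_swap g0 g1 g2, map_inv]
  have : ((MulAut.conj (ψ g)).toMonoidHom.comp ρ).eqLocus (ρ.comp θ.toMonoidHom) = ⊤ := by
    rw [eq_top_iff, ← hy, Subgroup.closure_le]
    rintro _ (rfl | rfl)
    · exact h
    · exact hcc
  exact this.ge (Subgroup.mem_top z)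

theorem commute_all {y : Matrix.SpecialLinearGroup (Fin 3) F} (hy : Subgroup.closure {y, cC} = ⊤) {k : G}
    (h1 : Commute k (ρ y)) (h2 : Commute k (ρ cC)) (z : Matrix.SpecialLinearGroup (Fin 3) F) : Commute k (ρ z) := by
  have : (Subgroup.centralizer {k}).comap ρ = ⊤ := by
    rw [eq_top_iff, ← hy, Subgroup.closure_le]
    rintro _ (rfl | rfl) <;>
      simp only [SetLike.mem_coe, Subgroup.mem_comap, Subgroup.mem_centralizer_singleton_iff]
    · exact h1.symm.eq
    · exact h2.symm.eq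
  have h := this.ge (Subgroup.mem_top z)
  rw [Subgroup.mem_comap, Subgroup.mem_centralizer_singleton_iff] at h
  exact h.symm

theorem commute_cyc {g : alternatingGroup (Idx r)} (hg : ∀ a : Fin 3, (g : Equiv.Perm (Idx r)) (Sum.inl a) = Sum.inl a) :
    Commute g (cyc r) := by
  rw [Commute, SemiconjBy, ← mul_inv_eq_iff_eq_mul]
  apply Subtype.ext
  rw [Subgroup.coe_mul, Subgroup.coe_mul, Subgroup.coe_inv, cyc_eq, cyc3_conj, hg, hg, hg]

/-- Exchanging the first two points and acting by `π` on the others. -/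
def swapG (π : Equiv.Perm (Fin r)) (hπ : Equiv.Perm.sign π = -1) : alternatingGroup (Idx r) :=
  ⟨Equiv.sumCongr (Equiv.swap 0 1) π, by
    rw [Equiv.Perm.mem_alternatingGroup, Equiv.Perm.sign_sumCongr, hπ, Equiv.Perm.sign_swap (by decide)]; decide⟩

/-- The relations in degree at least `5`. -/
def glueList (ω : Fˣ) (y : Matrix.SpecialLinearGroup (Fin 3) F) (g : alternatingGroup (Idx r))
    (S T : List (alternatingGroup (Idx r))) (τ : alternatingGroup (Idx r)) : List (Glue F r) :=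
  Glue.conj g y (θ y) :: Glue.far y τ :: (T.map fun t => Glue.conj t y y) ++
    (S.map fun s => Glue.conj s (tv 0 1 1) (tv 0 1 1)) ++ S.map fun s => Glue.conj s (emb (hD ω)) (emb (hD ω))

theorem enough_five (p : ℕ) [Fact p.Prime] [Algebra (ZMod p) F] {ω : Fˣ} (hω : orderOf ω = Fintype.card F - 1)
    {y : Matrix.SpecialLinearGroup (Fin 3) F} (hy : Subgroup.closure {y, cC} = ⊤)
    (π : Equiv.Perm (Fin r)) (hπ : Equiv.Perm.sign π = -1) (S T : List (alternatingGroup (Idx r)))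
    (hT : ∀ t ∈ T, ∀ a : Fin 3, (t : Equiv.Perm (Idx r)) (Sum.inl a) = Sum.inl a)
    (hstab : ∀ M : Subgroup (alternatingGroup (Idx r)), (∀ s ∈ S, s ∈ M) → (∀ t ∈ T, t ∈ M) →
      swapG π hπ * swapG π hπ ∈ M → ∀ σ : alternatingGroup (Idx r), (σ : Equiv.Perm (Idx r)) (Sum.inl 0) = Sum.inl 0 →
        (σ : Equiv.Perm (Idx r)) (Sum.inl 1) = Sum.inl 1 → σ ∈ M)
    (τ : alternatingGroup (Idx r))
    (hτ : ∀ a, a = 0 ∨ a = 1 → ∃ i, (τ : Equiv.Perm (Idx r)) (Sum.inl a) = Sum.inr i) :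
    GlueEnough r (glueList ω y (swapG π hπ) S T τ) := by
  intro G _ ρ ψ hc hE
  set g := swapG π hπ
  have hg : ψ g * ρ y * (ψ g)⁻¹ = ρ (θ y) := hE (Glue.conj g y (θ y)) (by simp [glueList])
  have hgall := act_swap hy hc (g := g) rfl rfl rfl hg
  let M : Subgroup (alternatingGroup (Idx r)) :=
    { carrier := {σ | ∀ t, Commute (ψ σ) (ρ (tv 0 1 t))}
      one_mem' := fun t => by rw [map_one]; exact Commute.one_left _
      mul_mem' := fun {a b} ha hb t => by rw [map_mul]; exact (ha t).mul_left (hb t)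
      inv_mem' := fun {a} ha t => by rw [map_inv]; exact (ha t).inv_left }
  have hMS : ∀ s ∈ S, s ∈ M := by
    intro s hs t
    have e1 : ψ s * ρ (tv 0 1 1) * (ψ s)⁻¹ = ρ (tv 0 1 1) :=
      hE (Glue.conj s (tv 0 1 1) (tv 0 1 1)) (by simp [glueList, hs])
    have e2 : ψ s * ρ (emb (hD ω)) * (ψ s)⁻¹ = ρ (emb (hD ω)) :=
      hE (Glue.conj s (emb (hD ω)) (emb (hD ω))) (by simp [glueList, hs])
    exact mul_inv_eq_iff_eq_mul.1 (root_eq p hω ((MulAut.conj (ψ s)).toMonoidHom.comp ρ) ρ e1 e2 t)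
  have hMT : ∀ s ∈ T, s ∈ M := by
    intro s hs t
    refine commute_all hy ?_ ?_ _
    · have : ψ s * ρ y * (ψ s)⁻¹ = ρ y := hE (Glue.conj s y y) (by simp [glueList, hs])
      exact mul_inv_eq_iff_eq_mul.1 this
    · rw [hc]; exact (commute_cyc (hT s hs)).map ψ
  have hMg : g * g ∈ M := by
    intro t
    refine commute_all hy ?_ ?_ _
    · have h2 : θ (θ y) = y := by
        apply Subtype.ext
        rw [coe_θ, coe_θ]
        ext a b
        simp
      rw [map_mul]
      apply mul_inv_eq_iff_eq_mul.1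
      calc ψ g * ψ g * ρ y * (ψ g * ψ g)⁻¹ = ψ g * (ψ g * ρ y * (ψ g)⁻¹) * (ψ g)⁻¹ := by group
        _ = _ := by rw [hgall, hgall, h2]
    · rw [hc]
      refine (commute_cyc fun a => ?_).map ψ
      show Sum.inl (Equiv.swap 0 1 (Equiv.swap 0 1 a)) = Sum.inl a
      simp
  have hfix := hstab M hMS hMT hMg
  refine ⟨fun σ h0 h1 t => mul_inv_eq_iff_eq_mul.2 (hfix σ h0 h1 t), ⟨g, rfl, rfl, fun t => ?_⟩, ⟨τ, ?_, fun s => ?_⟩⟩
  · rw [hgall, θ_tv 0 1 (by decide)]; rfl
  · intro a ha b _ e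
    obtain ⟨i, hi⟩ := hτ a ha
    rw [hi] at e
    cases e
  set k := ψ τ * ρ (tv 0 1 1) * (ψ τ)⁻¹
  refine (commute_all hy (k := k) ?_ ?_ _).symm
  · exact ((hE (Glue.far y τ) (by simp [glueList])) : ρ y * k = k * ρ y).symm
  · rw [hc]
    have hfx : ∀ a, a = 0 ∨ a = 1 →
        ((τ⁻¹ * cyc r * τ : alternatingGroup (Idx r)) : Equiv.Perm (Idx r)) (Sum.inl a) = Sum.inl a := by
      intro a ha
      obtain ⟨i, hi⟩ := hτ a ha
      rw [Subgroup.coe_mul, Subgroup.coe_mul, Subgroup.coe_inv, Equiv.Perm.mul_apply, Equiv.Perm.mul_apply, hi,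
        show (cyc r : Equiv.Perm (Idx r)) (Sum.inr i) = Sum.inr i from rfl, Equiv.Perm.inv_def, Equiv.symm_apply_eq, hi]
    have h1 := (hfix _ (hfx 0 (Or.inl rfl)) (hfx 1 (Or.inr rfl)) 1).map (MulAut.conj (ψ τ)).toMonoidHom
    simp only [MulEquiv.coe_toMonoidHom, MulAut.conj_apply] at h1
    rw [map_mul, map_mul, map_inv, show ψ τ * ((ψ τ)⁻¹ * ψ (cyc r) * ψ τ) * (ψ τ)⁻¹ = ψ (cyc r) by group] at h1
    exact h1.symm

theorem valid_five (ω : Fˣ) (y : Matrix.SpecialLinearGroup (Fin 3) F) (π : Equiv.Perm (Fin r))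
    (hπ : Equiv.Perm.sign π = -1) (S T : List (alternatingGroup (Idx r)))
    (hS : ∀ s ∈ S, (s : Equiv.Perm (Idx r)) (Sum.inl 0) = Sum.inl 0 ∧ (s : Equiv.Perm (Idx r)) (Sum.inl 1) = Sum.inl 1)
    (hT : ∀ t ∈ T, ∀ a : Fin 3, (t : Equiv.Perm (Idx r)) (Sum.inl a) = Sum.inl a)
    (τ : alternatingGroup (Idx r))
    (hτ : ∀ a, a = 0 ∨ a = 1 → ∃ i, (τ : Equiv.Perm (Idx r)) (Sum.inl a) = Sum.inr i) :
    ∀ e ∈ glueList ω y (swapG π hπ) S T τ, e.Holds blockEmb permMat := by
  intro e he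
  simp only [glueList, List.cons_append, List.mem_cons, List.mem_append, List.mem_map] at he
  have h01 : ((blockEmb (tv 0 1 (1 : F))) : Matrix.SpecialLinearGroup (Idx r) F) = tv (Sum.inl 0) (Sum.inl 1) 1 :=
    blockEmb_tv (by decide) 1
  rcases he with rfl | rfl | ((⟨t, ht, rfl⟩ | ⟨s, hs, rfl⟩) | ⟨s, hs, rfl⟩)
  · show permMat _ * blockEmb y * (permMat _)⁻¹ = blockEmb (θ y)
    have : ((MulAut.conj (permMat (swapG π hπ))).toMonoidHom.comp blockEmb).eqLocus
        ((blockEmb : Matrix.SpecialLinearGroup (Fin 3) F →* Matrix.SpecialLinearGroup (Idx r) F).comp θ.toMonoidHom) = ⊤ := by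
      refine CfsgLib.Linear.sl_eq_top_of_transvections fun a b hab t => ?_
      rw [show Matrix.SpecialLinearGroup.transvection hab t = tv a b t by rw [tv, dif_neg hab]]
      show permMat _ * blockEmb (tv a b t) * (permMat _)⁻¹ = blockEmb (θ (tv a b t))
      rw [θ_tv a b hab, blockEmb_tv hab, blockEmb_tv ((Equiv.swap (0 : Fin 3) 1).injective.ne hab),
        permMat_tv _ _ _ (Sum.inl_injective.ne hab)]
      rfl
    exact this.ge (Subgroup.mem_top y)
  · show blockEmb y * _ = _ * blockEmb y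
    obtain ⟨i, hi⟩ := hτ 0 (Or.inl rfl)
    obtain ⟨j, hj⟩ := hτ 1 (Or.inr rfl)
    have hij : (Sum.inr i : Idx r) ≠ Sum.inr j := by
      rw [← hi, ← hj]; exact (τ : Equiv.Perm (Idx r)).injective.ne (by simp)
    rw [h01, permMat_tv _ _ _ (by simp), hi, hj]
    have : (Subgroup.centralizer {(tv (Sum.inr i) (Sum.inr j) 1 : Matrix.SpecialLinearGroup (Idx r) F)}).comap blockEmb = ⊤ := by
      refine CfsgLib.Linear.sl_eq_top_of_transvections fun a b hab t => ?_
      rw [show Matrix.SpecialLinearGroup.transvection hab t = tv a b t by rw [tv, dif_neg hab],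
        Subgroup.mem_comap, Subgroup.mem_centralizer_singleton_iff, blockEmb_tv hab]
      exact ((stRel_SL (ι := Idx r) (F := F) fun u v => by
        rcases u with u | u <;> rcases v with v | v
        · obtain ⟨k, hk⟩ : ∃ k : Fin 3, k ≠ u ∧ k ≠ v := by revert u v; decide
          exact ⟨Sum.inl k, by simp [hk.1], by simp [hk.2]⟩
        · exact ⟨Sum.inl (u + 1), by simp, by simp⟩
        · exact ⟨Sum.inl (v + 1), by simp, by simp⟩
        · exact ⟨Sum.inl 0, by simp, by simp⟩).comm _ _ _ _ (Sum.inl_injective.ne hab) hij (by simp) (by simp) t 1).eq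
    have h := this.ge (Subgroup.mem_top y)
    rwa [Subgroup.mem_comap, Subgroup.mem_centralizer_singleton_iff] at h
  · show permMat t * blockEmb y * (permMat t)⁻¹ = blockEmb y
    have : ((MulAut.conj (permMat t)).toMonoidHom.comp blockEmb).eqLocus
        (blockEmb : Matrix.SpecialLinearGroup (Fin 3) F →* Matrix.SpecialLinearGroup (Idx r) F) = ⊤ := by
      refine CfsgLib.Linear.sl_eq_top_of_transvections fun a b hab u => ?_
      rw [show Matrix.SpecialLinearGroup.transvection hab u = tv a b u by rw [tv, dif_neg hab]]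
      show permMat _ * blockEmb (tv a b u) * (permMat _)⁻¹ = blockEmb (tv a b u)
      rw [blockEmb_tv hab, permMat_tv _ _ _ (Sum.inl_injective.ne hab), hT t ht a, hT t ht b]
    exact this.ge (Subgroup.mem_top y)
  · show permMat s * blockEmb (tv 0 1 1) * (permMat s)⁻¹ = _
    rw [h01, permMat_tv _ _ _ (by simp), (hS s hs).1, (hS s hs).2]
  · show permMat s * blockEmb (emb (hD ω)) * (permMat s)⁻¹ = _
    apply mul_inv_eq_iff_eq_mul.2
    apply Subtype.ext
    obtain ⟨s0, s1⟩ := hS s hs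
    show (permMat s : Matrix.SpecialLinearGroup (Idx r) F).1 *
        Matrix.fromBlocks (emb (hD ω) : Matrix.SpecialLinearGroup (Fin 3) F).1 0 0 1 =
      Matrix.fromBlocks (emb (hD ω) : Matrix.SpecialLinearGroup (Fin 3) F).1 0 0 1 *
        (permMat s : Matrix.SpecialLinearGroup (Idx r) F).1
    set d : Idx r → F := Sum.elim ![(ω : F), ((ω⁻¹ : Fˣ) : F), 1] fun _ => 1 with hd
    have hdiag : Matrix.fromBlocks (emb (hD ω) : Matrix.SpecialLinearGroup (Fin 3) F).1 0 0 1 = Matrix.diagonal d := by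
      ext (a | a) (b | b)
      · rw [Matrix.fromBlocks_apply₁₁, coe_emb]
        fin_cases a <;> fin_cases b <;> simp [hD, d]
      all_goals simp [d, Matrix.diagonal, Matrix.one_apply]
    rw [hdiag]
    ext a b
    rw [Matrix.mul_diagonal, Matrix.diagonal_mul, coe_permMat]
    split_ifs with h
    · subst h
      rw [one_mul, mul_one]
      have out : ∀ z : Idx r, z ≠ Sum.inl 0 → z ≠ Sum.inl 1 → d z = 1 := by
        rintro (z | z) z0 z1
        · fin_cases z
          · exact absurd rfl z0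
          · exact absurd rfl z1
          · rfl
        · rfl
      by_cases b0 : b = Sum.inl 0
      · subst b0; rw [s0]
      by_cases b1 : b = Sum.inl 1
      · subst b1; rw [s1]
      rw [out b b0 b1, out _ (fun e => b0 ((s : Equiv.Perm (Idx r)).injective (e.trans s0.symm)))
        (fun e => b1 ((s : Equiv.Perm (Idx r)).injective (e.trans s1.symm)))]
    · simp

/-- The exchange in degree four. -/
def g4 : alternatingGroup (Idx 1) := ⟨Equiv.swap (Sum.inl 0) (Sum.inl 1) * Equiv.swap (Sum.inl 2) (Sum.inr 0), by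
  rw [Equiv.Perm.mem_alternatingGroup, map_mul, Equiv.Perm.sign_swap (by decide), Equiv.Perm.sign_swap (by decide)]; decide⟩

/-- The move in degree four. -/
def τ4 : alternatingGroup (Idx 1) := ⟨Equiv.swap (Sum.inl 0) (Sum.inl 2) * Equiv.swap (Sum.inl 1) (Sum.inr 0), by
  rw [Equiv.Perm.mem_alternatingGroup, map_mul, Equiv.Perm.sign_swap (by decide), Equiv.Perm.sign_swap (by decide)]; decide⟩

/-- The relations in degree four. -/
def glueFour (ω : Fˣ) : List (Glue F 1) :=
  [Glue.conj g4 (tv 0 1 1) (tv 1 0 1), Glue.conj g4 (emb (hD ω)) (emb (hD ω))⁻¹, Glue.far (tv 0 1 1) τ4,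
    Glue.far (emb (hD ω)) τ4]

theorem enough_four (p : ℕ) [Fact p.Prime] [Algebra (ZMod p) F] {ω : Fˣ} (hω : orderOf ω = Fintype.card F - 1) :
    GlueEnough 1 (glueFour ω) := by
  intro G _ ρ ψ hc hE
  refine ⟨fun σ h0 h1 t => ?_, ?_, ?_⟩
  · have h : σ = 1 := by
      apply Subtype.ext
      have hs := Equiv.Perm.mem_alternatingGroup.1 σ.2
      have key : ∀ σ : Equiv.Perm (Idx 1), Equiv.Perm.sign σ = 1 → σ (Sum.inl 0) = Sum.inl 0 →
          σ (Sum.inl 1) = Sum.inl 1 → σ = 1 := by decide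
      exact key _ hs h0 h1
    rw [h]; simp
  · refine ⟨g4, ?_, ?_, fun t => ?_⟩
    rotate_left 2
    · have e1 := hE _ (List.mem_cons_self ..)
      have e2 := hE _ (List.mem_cons_of_mem _ (List.mem_cons_self ..))
      simp only [Glue.Holds] at e1 e2
      have := root_eq p hω ((MulAut.conj (ψ g4)).toMonoidHom.comp ρ) (ρ.comp θ.toMonoidHom)
        (e1.trans (by simp [θ_tv 0 1 (by decide)])) (e2.trans (by simp [θ_hD])) t
      simpa [θ_tv 0 1 (by decide)] using this
    all_goals decide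
  · refine ⟨τ4, ?_, fun s => ?_⟩
    rotate_left 1
    · have e1 := hE _ (List.mem_cons_of_mem _ (List.mem_cons_of_mem _ (List.mem_cons_self ..)))
      have e2 := hE _ (List.mem_cons_of_mem _ (List.mem_cons_of_mem _ (List.mem_cons_of_mem _ (List.mem_cons_self ..))))
      simp only [Glue.Holds] at e1 e2
      have := root_eq p hω ((MulAut.conj (ψ τ4 * ρ (tv 0 1 1) * (ψ τ4)⁻¹)).toMonoidHom.comp ρ) ρ
        (mul_inv_eq_iff_eq_mul.2 e1.symm) (mul_inv_eq_iff_eq_mul.2 e2.symm) s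
      exact (mul_inv_eq_iff_eq_mul.1 this : Commute _ _).symm
    · decide

theorem valid_four (ω : Fˣ) : ∀ e ∈ glueFour ω, e.Holds (blockEmb) permMat := by
  intro e he
  simp only [glueFour, List.mem_cons, List.not_mem_nil, or_false] at he
  have h01 : ((blockEmb (tv 0 1 (1 : F))) : Matrix.SpecialLinearGroup (Idx 1) F) = tv (Sum.inl 0) (Sum.inl 1) 1 :=
    blockEmb_tv (by decide) 1
  set d : Idx 1 → F := Sum.elim ![(ω : F), ((ω⁻¹ : Fˣ) : F), 1] fun _ => 1 with hd
  have hh : ((blockEmb (emb (hD ω)) : Matrix.SpecialLinearGroup (Idx 1) F)).1 = Matrix.diagonal d := by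
    show Matrix.fromBlocks (emb (hD ω) : Matrix.SpecialLinearGroup (Fin 3) F).1 0 0 1 = _
    ext (a | a) (b | b)
    · rw [Matrix.fromBlocks_apply₁₁, coe_emb]
      fin_cases a <;> fin_cases b <;> simp [hD, d]
    all_goals simp [d, Matrix.diagonal, Matrix.one_apply]
  rcases he with rfl | rfl | rfl | rfl <;> simp only [Glue.Holds]
  · rw [h01, permMat_tv _ _ _ (by decide), blockEmb_tv (by decide)]
    rfl
  · rw [map_inv, mul_inv_eq_iff_eq_mul, eq_inv_mul_iff_mul_eq]
    apply Subtype.ext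
    simp only [Matrix.SpecialLinearGroup.coe_mul, hh]
    ext (a | a) (b | b) <;> fin_cases a <;> fin_cases b <;>
      simp [Matrix.mul_diagonal, Matrix.diagonal_mul, coe_permMat, d, g4, Equiv.swap_apply_def]
  · rw [h01, permMat_tv _ _ _ (by decide)]
    exact ((stRel_SL (ι := Idx 1) (F := F) (by decide)).comm _ _ _ _ (by decide) (by decide) (by decide) (by decide) 1 1).eq
  · rw [h01, permMat_tv _ _ _ (by decide)]
    apply Subtype.ext
    simp only [Matrix.SpecialLinearGroup.coe_mul, hh]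
    rw [coe_tv (by decide)]
    ext (a | a) (b | b) <;> fin_cases a <;> fin_cases b <;>
      simp [Matrix.mul_diagonal, Matrix.diagonal_mul, Matrix.transvection, Matrix.single_apply, d, τ4, Equiv.swap_apply_def]

end CfsgLib.SLnPres
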