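import Cfsg.Agent.SLnPres.Basic
import Cfsg.Agent.SteinbergSLn.Injective
import Cfsg.Agent.BoundedAlt.Tools

/-!
# A rank two piece and the alternating group generate a copy of `SL`
-/

set_option autoImplicit false

namespace CfsgLib.SLnPres

open CfsgLib.BoundedAlt CfsgLib.SteinbergSLn

variable {G F α : Type*} [Group G] [Field F] [Fintype α] [DecidableEq α]

theorem map_W {G H : Type*} [Group G] [Group H] {K ι : Type*} [Field K] (f : G →* H) {x : ι → ι → K → G}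
    {x' : ι → ι → K → H} {i j : ι} (h1 : ∀ t, f (x i j t) = x' i j t) (h2 : ∀ t, f (x j i t) = x' j i t) (t : K) :
    f (W x i j t) = W x' i j t := by
  simp [W, h1, h2]

theorem exists_even_of_four {i j k l : α} (hij : i ≠ j) {p q : α} (hpq : p ≠ q)
    (hkl : k ≠ l) (hk : k ≠ i ∧ k ≠ j) (hl : l ≠ i ∧ l ≠ j) :
    ∃ σ : Equiv.Perm α, σ ∈ alternatingGroup α ∧ σ p = i ∧ σ q = j := by
  set σ₀ := Equiv.swap (Equiv.swap p i q) j * Equiv.swap p i
  have hne : i ≠ Equiv.swap p i q := fun e => hpq ((Equiv.swap p i).injective (by rw [Equiv.swap_apply_left]; exact e))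
  have h1 : σ₀ p = i := by
    rw [Equiv.Perm.mul_apply, Equiv.swap_apply_left]; exact Equiv.swap_apply_of_ne_of_ne hne hij
  have h2 : σ₀ q = j := by rw [Equiv.Perm.mul_apply, Equiv.swap_apply_left]
  rcases Int.units_eq_one_or (Equiv.Perm.sign σ₀) with h | h
  · exact ⟨σ₀, Equiv.Perm.mem_alternatingGroup.2 h, h1, h2⟩
  · refine ⟨Equiv.swap k l * σ₀, ?_, ?_, ?_⟩
    · rw [Equiv.Perm.mem_alternatingGroup, map_mul, Equiv.Perm.sign_swap hkl, h]; decide
    · rw [Equiv.Perm.mul_apply, h1, Equiv.swap_apply_of_ne_of_ne (Ne.symm hk.1) (Ne.symm hl.1)]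
    · rw [Equiv.Perm.mul_apply, h2, Equiv.swap_apply_of_ne_of_ne (Ne.symm hk.2) (Ne.symm hl.2)]

theorem exists_even (h4 : 4 ≤ Fintype.card α) {p q i j : α} (hpq : p ≠ q) (hij : i ≠ j) :
    ∃ σ : Equiv.Perm α, σ ∈ alternatingGroup α ∧ σ p = i ∧ σ q = j := by
  have h : 1 < ((Finset.univ : Finset α) \ {i, j}).card := by
    have := Finset.le_card_sdiff ({i, j} : Finset α) Finset.univ
    have := Finset.card_le_two (a := i) (b := j)
    rw [Finset.card_univ] at *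
    omega
  obtain ⟨k, hk, l, hl, hkl⟩ := Finset.one_lt_card.1 h
  simp only [Finset.mem_sdiff, Finset.mem_univ, true_and, Finset.mem_insert, Finset.mem_singleton, not_or] at hk hl
  exact exists_even_of_four hij hpq hkl hk hl

/-- The data. -/
structure Amalgam (G F α : Type*) [Group G] [Field F] [Fintype α] [DecidableEq α] where
  p : Fin 3 → α
  hp : Function.Injective p
  h4 : 4 ≤ Fintype.card α
  ρ : Matrix.SpecialLinearGroup (Fin 3) F →* G
  ψ : alternatingGroup α →* G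
  φ : G →* Matrix.SpecialLinearGroup α F
  c : Matrix.SpecialLinearGroup (Fin 3) F
  c' : alternatingGroup α
  hc : ρ c = ψ c'
  hcp : ∀ a : Fin 3, (c' : Equiv.Perm α) (p a) = p (a + 1)
  hcc : (c' : Equiv.Perm α) = cyc3 (p 0) (p 1) (p 2)
  hctv : ∀ a b : Fin 3, a ≠ b → ∀ t : F, c * tv a b t * c⁻¹ = tv (a + 1) (b + 1) t
  hfix : ∀ σ : alternatingGroup α, (σ : Equiv.Perm α) (p 0) = p 0 → (σ : Equiv.Perm α) (p 1) = p 1 →
    ∀ t, ψ σ * ρ (tv 0 1 t) * (ψ σ)⁻¹ = ρ (tv 0 1 t)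
  hswap : ∃ σ : alternatingGroup α, (σ : Equiv.Perm α) (p 0) = p 1 ∧ (σ : Equiv.Perm α) (p 1) = p 0 ∧
    ∀ t, ψ σ * ρ (tv 0 1 t) * (ψ σ)⁻¹ = ρ (tv 1 0 t)
  hfar : ∃ σ : alternatingGroup α, (∀ a, a = 0 ∨ a = 1 → ∀ b, b = 0 ∨ b = 1 → (σ : Equiv.Perm α) (p a) ≠ p b) ∧
    ∀ s, Commute (ρ (tv 0 1 s)) (ψ σ * ρ (tv 0 1 1) * (ψ σ)⁻¹)
  hφρ : ∀ a b : Fin 3, a ≠ b → ∀ t, φ (ρ (tv a b t)) = tv (p a) (p b) t
  hφψ : ∀ σ, φ (ψ σ) = permMat σ
  hgen : ρ.range ⊔ ψ.range = ⊤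

namespace Amalgam

variable (A : Amalgam G F α)

/-- A permutation moving `(p 0, p 1)` to `(i, j)`. -/
noncomputable def move (i j : α) : alternatingGroup α :=
  if h : i = j then 1 else
    ⟨(exists_even A.h4 (A.hp.ne (show (0 : Fin 3) ≠ 1 by decide)) h).choose,
      (exists_even A.h4 (A.hp.ne (show (0 : Fin 3) ≠ 1 by decide)) h).choose_spec.1⟩

theorem move_spec {i j : α} (h : i ≠ j) :
    (A.move i j : Equiv.Perm α) (A.p 0) = i ∧ (A.move i j : Equiv.Perm α) (A.p 1) = j := by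
  rw [move, dif_neg h]
  exact (exists_even A.h4 (A.hp.ne (show (0 : Fin 3) ≠ 1 by decide)) h).choose_spec.2

/-- The root elements. -/
noncomputable def x (i j : α) (t : F) : G := A.ψ (A.move i j) * A.ρ (tv 0 1 t) * (A.ψ (A.move i j))⁻¹

theorem x_eq {i j : α} (h : i ≠ j) (σ : alternatingGroup α) (h0 : (σ : Equiv.Perm α) (A.p 0) = i)
    (h1 : (σ : Equiv.Perm α) (A.p 1) = j) (t : F) :
    A.x i j t = A.ψ σ * A.ρ (tv 0 1 t) * (A.ψ σ)⁻¹ := by
  obtain ⟨m0, m1⟩ := A.move_spec h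
  have := A.hfix ((A.move i j)⁻¹ * σ) (by simp [Equiv.Perm.inv_def, Equiv.symm_apply_eq, h0, m0])
    (by simp [Equiv.Perm.inv_def, Equiv.symm_apply_eq, h1, m1]) t
  rw [x]
  calc A.ψ (A.move i j) * A.ρ (tv 0 1 t) * (A.ψ (A.move i j))⁻¹ = A.ψ (A.move i j) *
      (A.ψ ((A.move i j)⁻¹ * σ) * A.ρ (tv 0 1 t) * (A.ψ ((A.move i j)⁻¹ * σ))⁻¹) * (A.ψ (A.move i j))⁻¹ := by
        rw [this]
    _ = _ := by rw [map_mul, map_inv]; group

theorem x_conj (τ : alternatingGroup α) {i j : α} (h : i ≠ j) (t : F) :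
    A.ψ τ * A.x i j t * (A.ψ τ)⁻¹ = A.x ((τ : Equiv.Perm α) i) ((τ : Equiv.Perm α) j) t := by
  obtain ⟨m0, m1⟩ := A.move_spec h
  rw [A.x_eq ((τ : Equiv.Perm α).injective.ne h) (τ * A.move i j) (by simp [m0]) (by simp [m1]), map_mul, x]
  group

theorem rho_c_conj (a b : Fin 3) (h : a ≠ b) (t : F) (e : A.ρ (tv a b t) = A.x (A.p a) (A.p b) t) :
    A.ρ (tv (a + 1) (b + 1) t) = A.x (A.p (a + 1)) (A.p (b + 1)) t := by
  rw [← A.hctv a b h t, map_mul, map_mul, map_inv, A.hc, e, A.x_conj _ (A.hp.ne h), A.hcp, A.hcp]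

theorem rho_tv (a b : Fin 3) (h : a ≠ b) (t : F) : A.ρ (tv a b t) = A.x (A.p a) (A.p b) t := by
  have h01 : A.ρ (tv 0 1 t) = A.x (A.p 0) (A.p 1) t := by
    rw [A.x_eq (A.hp.ne (by decide)) 1 (by simp) (by simp)]; simp
  have h10 : A.ρ (tv 1 0 t) = A.x (A.p 1) (A.p 0) t := by
    obtain ⟨σ, s0, s1, hs⟩ := A.hswap
    rw [A.x_eq (A.hp.ne (by decide)) σ s0 s1, hs]
  have h12 := A.rho_c_conj 0 1 (by decide) t h01
  have h20 := A.rho_c_conj 1 2 (by decide) t h12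
  have h21 := A.rho_c_conj 1 0 (by decide) t h10
  have h02 := A.rho_c_conj 2 1 (by decide) t h21
  fin_cases a <;> fin_cases b
  all_goals first
    | exact absurd rfl h
    | exact h01
    | exact h10
    | exact h12
    | exact h20
    | exact h21
    | exact h02

/-- The frame moved by `σ`. -/
def frame (σ : alternatingGroup α) : Matrix.SpecialLinearGroup (Fin 3) F →* G :=
  (MulAut.conj (A.ψ σ)).toMonoidHom.comp A.ρ

theorem frame_tv (σ : alternatingGroup α) {a b : Fin 3} (h : a ≠ b) (t : F) :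
    A.frame σ (tv a b t) = A.x ((σ : Equiv.Perm α) (A.p a)) ((σ : Equiv.Perm α) (A.p b)) t := by
  rw [← A.x_conj σ (A.hp.ne h), ← A.rho_tv a b h]
  simp [frame]

theorem exists_frame {i j l : α} (hij : i ≠ j) (hjl : j ≠ l) (hil : i ≠ l) :
    ∃ (σ : alternatingGroup α) (π : Equiv.Perm (Fin 3)), (σ : Equiv.Perm α) (A.p (π 0)) = i ∧
      (σ : Equiv.Perm α) (A.p (π 1)) = j ∧ (σ : Equiv.Perm α) (A.p (π 2)) = l := by
  -- some permutation does it
  set s1 := Equiv.swap (A.p 0) i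
  set s2 := Equiv.swap (s1 (A.p 1)) j
  set s3 := Equiv.swap (s2 (s1 (A.p 2))) l
  have n01 : s1 (A.p 0) ≠ s1 (A.p 1) := s1.injective.ne (A.hp.ne (by decide))
  have e1 : s1 (A.p 0) = i := Equiv.swap_apply_left _ _
  have e2 : s2 i = i := Equiv.swap_apply_of_ne_of_ne (by rw [← e1]; exact n01) hij
  have e3 : s2 (s1 (A.p 1)) = j := Equiv.swap_apply_left _ _
  have n2i : s2 (s1 (A.p 2)) ≠ i := fun e => by
    rw [← e2, ← e1] at e
    exact A.hp.ne (show (2 : Fin 3) ≠ 0 by decide) (s1.injective (s2.injective e))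
  have n2j : s2 (s1 (A.p 2)) ≠ j := fun e => by
    rw [← e3] at e
    exact A.hp.ne (show (2 : Fin 3) ≠ 1 by decide) (s1.injective (s2.injective e))
  set σ₀ := s3 * s2 * s1
  have f0 : σ₀ (A.p 0) = i := by
    show s3 (s2 (s1 (A.p 0))) = i
    rw [e1, e2]; exact Equiv.swap_apply_of_ne_of_ne n2i.symm hil
  have f1 : σ₀ (A.p 1) = j := by
    show s3 (s2 (s1 (A.p 1))) = j
    rw [e3]; exact Equiv.swap_apply_of_ne_of_ne n2j.symm hjl
  have f2 : σ₀ (A.p 2) = l := Equiv.swap_apply_left _ _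
  rcases Int.units_eq_one_or (Equiv.Perm.sign σ₀) with h | h
  · exact ⟨⟨σ₀, Equiv.Perm.mem_alternatingGroup.2 h⟩, 1, f0, f1, f2⟩
  · refine ⟨⟨σ₀ * Equiv.swap (A.p 0) (A.p 1), ?_⟩, Equiv.swap 0 1, ?_, ?_, ?_⟩
    · rw [Equiv.Perm.mem_alternatingGroup, map_mul, Equiv.Perm.sign_swap (A.hp.ne (by decide)), h]; decide
    · simp [f0]
    · simp [f1]
    · rw [Equiv.swap_apply_of_ne_of_ne (show (2 : Fin 3) ≠ 0 by decide) (show (2 : Fin 3) ≠ 1 by decide)]
      show σ₀ (Equiv.swap (A.p 0) (A.p 1) (A.p 2)) = l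
      rw [Equiv.swap_apply_of_ne_of_ne (A.hp.ne (by decide)) (A.hp.ne (by decide)), f2]

theorem sl3 : StRel (tv : Fin 3 → Fin 3 → F → Matrix.SpecialLinearGroup (Fin 3) F) (toMat (Fin 3) F) :=
  stRel_SL (by decide)

theorem x_add {i j : α} (h : i ≠ j) (t u : F) : A.x i j (t + u) = A.x i j t * A.x i j u := by
  simp only [x, (sl3 (F := F)).add 0 1 (by decide) t u, map_mul]
  group

theorem x_prod {i j l : α} (hij : i ≠ j) (hjl : j ≠ l) (hil : i ≠ l) (t u : F) :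
    A.x i j t * A.x j l u * (A.x i j t)⁻¹ * (A.x j l u)⁻¹ = A.x i l (t * u) := by
  obtain ⟨σ, π, h0, h1, h2⟩ := A.exists_frame hij hjl hil
  have n01 : π 0 ≠ π 1 := π.injective.ne (by decide)
  have n12 : π 1 ≠ π 2 := π.injective.ne (by decide)
  have n02 : π 0 ≠ π 2 := π.injective.ne (by decide)
  have := congrArg (A.frame σ) ((sl3 (F := F)).prod _ _ _ n01 n12 n02 t u)
  rwa [map_mul, map_mul, map_mul, map_inv, map_inv, A.frame_tv σ n01, A.frame_tv σ n12, A.frame_tv σ n02,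
    h0, h1, h2] at this

theorem x_comm_row {i j l : α} (hij : i ≠ j) (hjl : j ≠ l) (hil : i ≠ l) (t u : F) :
    Commute (A.x i j t) (A.x i l u) := by
  obtain ⟨σ, π, h0, h1, h2⟩ := A.exists_frame hij hjl hil
  have n01 : π 0 ≠ π 1 := π.injective.ne (by decide)
  have n02 : π 0 ≠ π 2 := π.injective.ne (by decide)
  have := ((sl3 (F := F)).comm _ _ _ _ n01 n02 n02 n01.symm t u).map (A.frame σ)
  rwa [A.frame_tv σ n01, A.frame_tv σ n02, h0, h1, h2] at this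

theorem x_comm_col {i j k : α} (hij : i ≠ j) (hkj : k ≠ j) (hik : i ≠ k) (t u : F) :
    Commute (A.x i j t) (A.x k j u) := by
  obtain ⟨σ, π, h0, h1, h2⟩ := A.exists_frame hij hkj.symm hik
  have n01 : π 0 ≠ π 1 := π.injective.ne (by decide)
  have n21 : π 2 ≠ π 1 := π.injective.ne (by decide)
  have := ((sl3 (F := F)).comm _ _ _ _ n01 n21 n01 n21.symm t u).map (A.frame σ)
  rwa [A.frame_tv σ n01, A.frame_tv σ n21, h0, h1, h2] at this

/-- The torus of `(i, l)` scales the root groups touching `i` or `l`. -/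
theorem tor_conj {i j l : α} (hij : i ≠ j) (hjl : j ≠ l) (hil : i ≠ l) {e : F} (he : e ≠ 0) (v : F) :
    H A.x i l e * A.x i j v * (H A.x i l e)⁻¹ = A.x i j (e * v) ∧
      H A.x i l e * A.x l j v * (H A.x i l e)⁻¹ = A.x l j (e⁻¹ * v) := by
  obtain ⟨σ, π, h0, h1, h2⟩ := A.exists_frame hij hjl hil
  have n02 : π 0 ≠ π 2 := π.injective.ne (by decide)
  have n10 : π 1 ≠ π 0 := π.injective.ne (by decide)
  have n12 : π 1 ≠ π 2 := π.injective.ne (by decide)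
  have hx : ∀ t, A.frame σ (tv (π 0) (π 2) t) = A.x i l t := fun t => by rw [A.frame_tv σ n02, h0, h2]
  have hy : ∀ t, A.frame σ (tv (π 2) (π 0) t) = A.x l i t := fun t => by rw [A.frame_tv σ n02.symm, h2, h0]
  have hH : A.frame σ (H (tv : Fin 3 → Fin 3 → F → Matrix.SpecialLinearGroup (Fin 3) F) (π 0) (π 2) e) =
      H A.x i l e := by
    simp only [H, W, map_mul, hx, hy]
  constructor
  · have := congrArg (A.frame σ) (H_ik (sl3 (F := F)) n02 n10 n12 he v)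
    rwa [map_mul, map_mul, map_inv, hH, A.frame_tv σ n10.symm, A.frame_tv σ n10.symm, h0, h1] at this
  · have := congrArg (A.frame σ) (H_jk (sl3 (F := F)) n02 n10 n12 he v)
    rwa [map_mul, map_mul, map_inv, hH, A.frame_tv σ n12.symm, A.frame_tv σ n12.symm, h1, h2] at this

/-- Commutation of root groups with four different indices. -/
def Far (i j k l : α) : Prop := ∀ s t : F, Commute (A.x i j s) (A.x k l t)

theorem Far.symm {A : Amalgam G F α} {i j k l : α} (h : A.Far i j k l) : A.Far k l i j := fun s t => (h t s).symm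

theorem Far.conj {A : Amalgam G F α} {i j k l : α} (hij : i ≠ j) (hkl : k ≠ l) (h : A.Far i j k l)
    (σ : alternatingGroup α) : A.Far ((σ : Equiv.Perm α) i) ((σ : Equiv.Perm α) j) ((σ : Equiv.Perm α) k)
      ((σ : Equiv.Perm α) l) := fun s t => by
  rw [← A.x_conj σ hij, ← A.x_conj σ hkl]
  exact (h s t).map (MulAut.conj (A.ψ σ)).toMonoidHom

/-- Exchanging the first pair for its composite moves between the two orbits. -/
theorem Far.flip {A : Amalgam G F α} {i j k l : α} (hij : i ≠ j) (hik : i ≠ k) (hil : i ≠ l) (hjk : j ≠ k)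
    (hjl : j ≠ l) (hkl : k ≠ l) (h : A.Far k j i l) : A.Far i j k l := by
  intro s t
  set a := A.x i k s
  set b := A.x k j 1
  set C := A.x k l t
  set D := A.x i l (s * t)
  have hbC : Commute b C := A.x_comm_row hjk.symm hjl hkl 1 t
  have haD : Commute a D := A.x_comm_row hik hkl hil s (s * t)
  have hbD : Commute b D := h 1 (s * t)
  have haC : a * C = D * C * a := by
    have := A.x_prod hik hkl hil s t
    rw [mul_inv_eq_iff_eq_mul, mul_inv_eq_iff_eq_mul] at this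
    exact this
  have e : A.x i j s = a * b * a⁻¹ * b⁻¹ := by rw [A.x_prod hik hjk.symm hij, mul_one]
  have hC : a⁻¹ * C * a = D⁻¹ * C := by
    calc a⁻¹ * C * a = a⁻¹ * (D⁻¹ * (D * C * a)) := by group
      _ = a⁻¹ * (D⁻¹ * a) * C := by rw [← haC]; group
      _ = _ := by rw [← haD.inv_right.eq]; group
  have h2 : a * b * a⁻¹ * b⁻¹ * C * (a * b * a⁻¹ * b⁻¹)⁻¹ = C := by
    calc a * b * a⁻¹ * b⁻¹ * C * (a * b * a⁻¹ * b⁻¹)⁻¹ = a * b * a⁻¹ * (b⁻¹ * C) * b * a * b⁻¹ * a⁻¹ := by group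
      _ = a * b * a⁻¹ * C * a * b⁻¹ * a⁻¹ := by rw [hbC.inv_left.eq]; group
      _ = a * b * (a⁻¹ * C * a) * b⁻¹ * a⁻¹ := by group
      _ = a * (b * D⁻¹) * C * b⁻¹ * a⁻¹ := by rw [hC]; group
      _ = a * D⁻¹ * (b * C) * b⁻¹ * a⁻¹ := by rw [hbD.inv_right.eq]; group
      _ = a * D⁻¹ * C * a⁻¹ := by rw [hbC.eq]; group
      _ = D⁻¹ * (a * C) * a⁻¹ := by rw [haD.inv_right.eq]; group
      _ = C := by rw [haC]; group
  rw [Commute, SemiconjBy, e]
  calc a * b * a⁻¹ * b⁻¹ * C = (a * b * a⁻¹ * b⁻¹ * C * (a * b * a⁻¹ * b⁻¹)⁻¹) * (a * b * a⁻¹ * b⁻¹) := by group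
    _ = _ := by rw [h2]

theorem exists_far : ∃ k l : α, k ≠ l ∧ k ≠ A.p 0 ∧ k ≠ A.p 1 ∧ l ≠ A.p 0 ∧ l ≠ A.p 1 ∧
    A.Far (A.p 0) (A.p 1) k l := by
  obtain ⟨σ, hσ, h⟩ := A.hfar
  set k := (σ : Equiv.Perm α) (A.p 0) with hk
  set l := (σ : Equiv.Perm α) (A.p 1) with hl
  have hkl : k ≠ l := (σ : Equiv.Perm α).injective.ne (A.hp.ne (by decide))
  have k0 : k ≠ A.p 0 := hσ 0 (Or.inl rfl) 0 (Or.inl rfl)
  have k1 : k ≠ A.p 1 := hσ 0 (Or.inl rfl) 1 (Or.inr rfl)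
  have l0 : l ≠ A.p 0 := hσ 1 (Or.inr rfl) 0 (Or.inl rfl)
  have l1 : l ≠ A.p 1 := hσ 1 (Or.inr rfl) 1 (Or.inr rfl)
  have n01 : A.p 0 ≠ A.p 1 := A.hp.ne (by decide)
  refine ⟨k, l, hkl, k0, k1, l0, l1, fun s t => ?_⟩
  have h1 : ∀ s, Commute (A.x (A.p 0) (A.p 1) s) (A.x k l 1) := fun s => by
    rw [← A.rho_tv 0 1 (by decide), A.x_eq hkl σ hk.symm hl.symm]; exact h s
  rcases eq_or_ne t 0 with rfl | ht
  · have : A.x k l 0 = 1 := by simp [x, tv_zero]
    rw [this]; exact Commute.one_right _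
  have hT := (h1 (t * s)).map (MulAut.conj (H A.x (A.p 0) k t⁻¹)).toMonoidHom
  simp only [MulEquiv.coe_toMonoidHom, MulAut.conj_apply] at hT
  rwa [(A.tor_conj n01 k1.symm k0.symm (inv_ne_zero ht) (t * s)).1, ← mul_assoc, inv_mul_cancel₀ ht, one_mul,
    (A.tor_conj l0.symm hkl.symm k0.symm (inv_ne_zero ht) 1).2, inv_inv, mul_one] at hT

theorem far_all {i j k l : α} (hij : i ≠ j) (hik : i ≠ k) (hil : i ≠ l) (hjk : j ≠ k) (hjl : j ≠ l) (hkl : k ≠ l) :
    A.Far i j k l := by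
  obtain ⟨k₀, l₀, hkl₀, k00, k01, l00, l01, h⟩ := A.exists_far
  set i₀ := A.p 0
  set j₀ := A.p 1
  have hij₀ : i₀ ≠ j₀ := A.hp.ne (by decide)
  set s1 := Equiv.swap i₀ i
  set s2 := Equiv.swap (s1 j₀) j
  set s3 := Equiv.swap (s2 (s1 k₀)) k
  set s4 := Equiv.swap (s3 (s2 (s1 l₀))) l
  have a1 : s1 i₀ = i := Equiv.swap_apply_left _ _
  have b1 : s2 i = i := Equiv.swap_apply_of_ne_of_ne (by rw [← a1]; exact s1.injective.ne hij₀) hij
  have b2 : s2 (s1 j₀) = j := Equiv.swap_apply_left _ _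
  have n1 : s2 (s1 k₀) ≠ i := by rw [← b1, ← a1]; exact s2.injective.ne (s1.injective.ne k00)
  have n2 : s2 (s1 k₀) ≠ j := by rw [← b2]; exact s2.injective.ne (s1.injective.ne k01)
  have c1 : s3 i = i := Equiv.swap_apply_of_ne_of_ne n1.symm hik
  have c2 : s3 j = j := Equiv.swap_apply_of_ne_of_ne n2.symm hjk
  have c3 : s3 (s2 (s1 k₀)) = k := Equiv.swap_apply_left _ _
  have m1 : s3 (s2 (s1 l₀)) ≠ i := by
    rw [← c1]; refine s3.injective.ne ?_
    rw [← b1, ← a1]; exact s2.injective.ne (s1.injective.ne l00)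
  have m2 : s3 (s2 (s1 l₀)) ≠ j := by
    rw [← c2]; refine s3.injective.ne ?_
    rw [← b2]; exact s2.injective.ne (s1.injective.ne l01)
  have m3 : s3 (s2 (s1 l₀)) ≠ k := by
    rw [← c3]; exact s3.injective.ne (s2.injective.ne (s1.injective.ne hkl₀.symm))
  set σ := s4 * s3 * s2 * s1
  have f0 : σ i₀ = i := by
    show s4 (s3 (s2 (s1 i₀))) = i
    rw [a1, b1, c1]; exact Equiv.swap_apply_of_ne_of_ne m1.symm hil
  have f1 : σ j₀ = j := by
    show s4 (s3 (s2 (s1 j₀))) = j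
    rw [b2, c2]; exact Equiv.swap_apply_of_ne_of_ne m2.symm hjl
  have f2 : σ k₀ = k := by
    show s4 (s3 (s2 (s1 k₀))) = k
    rw [c3]; exact Equiv.swap_apply_of_ne_of_ne m3.symm hkl
  have f3 : σ l₀ = l := Equiv.swap_apply_left _ _
  rcases Int.units_eq_one_or (Equiv.Perm.sign σ) with hs | hs
  · have := h.conj hij₀ hkl₀ ⟨σ, Equiv.Perm.mem_alternatingGroup.2 hs⟩
    simpa [f0, f1, f2, f3] using this
  · refine Far.flip hij hik hil hjk hjl hkl ?_
    have := h.conj hij₀ hkl₀ ⟨Equiv.swap i k * σ, by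
      rw [Equiv.Perm.mem_alternatingGroup, map_mul, Equiv.Perm.sign_swap hik, hs]; decide⟩
    simpa [Equiv.Perm.mul_apply, f0, f1, f2, f3, Equiv.swap_apply_of_ne_of_ne, hij.symm, hjk, hil.symm, hkl.symm]
      using this

theorem stRel : StRel A.x ((toMat α F).comp A.φ) := by
  refine ⟨fun i j => ?_, fun i j h t u => A.x_add h t u, fun i j k l hij hkl hil hjk t u => ?_,
    fun i j l hij hjl hil t u => A.x_prod hij hjl hil t u, fun i j h t => ?_⟩
  · have h : 0 < ((Finset.univ : Finset α) \ {i, j}).card := by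
      have := Finset.le_card_sdiff ({i, j} : Finset α) Finset.univ
      have := Finset.card_le_two (a := i) (b := j)
      have := A.h4
      rw [Finset.card_univ] at *
      omega
    obtain ⟨k, hk⟩ := Finset.card_pos.1 h
    simp only [Finset.mem_sdiff, Finset.mem_univ, true_and, Finset.mem_insert, Finset.mem_singleton, not_or] at hk
    exact ⟨k, hk⟩
  · by_cases hik : i = k
    · subst hik
      by_cases hjl : j = l
      · subst hjl
        rw [Commute, SemiconjBy, ← A.x_add hij, ← A.x_add hij, add_comm]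
      · exact A.x_comm_row hij hjl hil t u
    · by_cases hjl : j = l
      · subst hjl; exact A.x_comm_col hij hkl hik t u
      · exact A.far_all hij hik hil hjk hjl hkl t u
  · obtain ⟨m0, m1⟩ := A.move_spec h
    rw [MonoidHom.comp_apply, show A.φ (A.x i j t) = tv i j t by
      rw [x, map_mul, map_mul, map_inv, A.hφψ, A.hφρ 0 1 (by decide),
        permMat_tv _ _ _ (A.hp.ne (by decide)), m0, m1]]
    exact coe_tv h t

theorem X_univ [Finite F] : X A.x Finset.univ Finset.univ = ⊤ := by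
  set N := X A.x Finset.univ Finset.univ
  have hρ : ∀ z, A.ρ z ∈ N := fun z => by
    have : N.comap A.ρ = ⊤ := CfsgLib.Linear.sl_eq_top_of_transvections fun a b hab t => by
      rw [Subgroup.mem_comap]
      have : tv a b t = Matrix.SpecialLinearGroup.transvection hab t := dif_neg hab
      rw [← this, A.rho_tv a b hab]
      exact mem_X (Finset.mem_univ _) (Finset.mem_univ _) (A.hp.ne hab) t
    exact this.ge (Subgroup.mem_top z)
  have hnorm : ∀ τ, ∀ z ∈ N, A.ψ τ * z * (A.ψ τ)⁻¹ ∈ N := by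
    intro τ
    have : N ≤ N.comap (MulAut.conj (A.ψ τ)).toMonoidHom := X_le fun i _ j _ hij t => by
      rw [Subgroup.mem_comap]
      show A.ψ τ * A.x i j t * (A.ψ τ)⁻¹ ∈ N
      rw [A.x_conj τ hij]
      exact mem_X (Finset.mem_univ _) (Finset.mem_univ _) ((τ : Equiv.Perm α).injective.ne hij) t
    exact fun z hz => this hz
  have hψ : ∀ τ, A.ψ τ ∈ N := fun τ => by
    have key : Rich ((N.comap A.ψ).map (alternatingGroup α).subtype) Set.univ := by
      intro a _ b _ c _ hab hac hbc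
      obtain ⟨σ, π, h0, h1, h2⟩ := A.exists_frame hab hbc hac
      -- the image of the cycle is the cycle or its inverse
      set z := σ * A.c' * σ⁻¹
      have hz : A.ψ z ∈ N := by
        rw [map_mul, map_mul, map_inv, ← A.hc]
        exact hnorm σ _ (hρ _)
      have e : (z : Equiv.Perm α) = cyc3 a b c ∨ (z : Equiv.Perm α) = (cyc3 a b c)⁻¹ := by
        have e0 : (z : Equiv.Perm α) = cyc3 ((σ : Equiv.Perm α) (A.p 0)) ((σ : Equiv.Perm α) (A.p 1))
            ((σ : Equiv.Perm α) (A.p 2)) := by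
          simp only [z, Subgroup.coe_mul, Subgroup.coe_inv, A.hcc, cyc3_conj]
        rw [cyc3_inv hab hac hbc, e0, ← h0, ← h1, ← h2]
        have n : ∀ u v : Fin 3, u ≠ v → (σ : Equiv.Perm α) (A.p u) ≠ (σ : Equiv.Perm α) (A.p v) :=
          fun u v huv => (σ : Equiv.Perm α).injective.ne (A.hp.ne huv)
        have hall : ∀ π : Equiv.Perm (Fin 3), (π 0 = 0 ∧ π 1 = 1 ∧ π 2 = 2) ∨ (π 0 = 1 ∧ π 1 = 2 ∧ π 2 = 0) ∨ (π 0 = 2 ∧ π 1 = 0 ∧ π 2 = 1) ∨
            (π 0 = 0 ∧ π 1 = 2 ∧ π 2 = 1) ∨ (π 0 = 1 ∧ π 1 = 0 ∧ π 2 = 2) ∨ (π 0 = 2 ∧ π 1 = 1 ∧ π 2 = 0) := by decide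
        have hπ : (π 0 = 0 ∧ π 1 = 1 ∧ π 2 = 2) ∨ (π 0 = 1 ∧ π 1 = 2 ∧ π 2 = 0) ∨ (π 0 = 2 ∧ π 1 = 0 ∧ π 2 = 1) ∨
            (π 0 = 0 ∧ π 1 = 2 ∧ π 2 = 1) ∨ (π 0 = 1 ∧ π 1 = 0 ∧ π 2 = 2) ∨ (π 0 = 2 ∧ π 1 = 1 ∧ π 2 = 0) := by
          exact hall π
        rcases hπ with ⟨a0, a1, a2⟩ | ⟨a0, a1, a2⟩ | ⟨a0, a1, a2⟩ | ⟨a0, a1, a2⟩ | ⟨a0, a1, a2⟩ | ⟨a0, a1, a2⟩ <;>
          rw [a0, a1, a2]
        · exact Or.inl rfl
        · exact Or.inl (cyc3_rot (n 0 1 (by decide)) (n 0 2 (by decide)) (n 1 2 (by decide)))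
        · exact Or.inl (cyc3_rot (n 2 0 (by decide)) (n 2 1 (by decide)) (n 0 1 (by decide))).symm
        · exact Or.inr rfl
        · exact Or.inr (cyc3_rot (n 0 1 (by decide)) (n 0 2 (by decide)) (n 1 2 (by decide)))
        · exact Or.inr (cyc3_rot (n 2 0 (by decide)) (n 2 1 (by decide)) (n 0 1 (by decide))).symm
      rcases e with e | e
      · exact ⟨z, hz, e⟩
      · exact ⟨z⁻¹, inv_mem hz, by simp [e]⟩
    obtain ⟨τ', hτ', e⟩ := alternating_le_of_rich key τ.2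
    rwa [← Subtype.ext e]
  rw [eq_top_iff, ← A.hgen, sup_le_iff]
  exact ⟨by rintro _ ⟨z, rfl⟩; exact hρ z, by rintro _ ⟨z, rfl⟩; exact hψ z⟩

include A in
/-- The amalgam is `SL`. -/
theorem bijective [Fintype F] : Function.Bijective A.φ := by
  refine ⟨(injective_iff_map_eq_one A.φ).2 fun g hg => ?_, ?_⟩
  · refine injective_on A.stRel _ (le_trans (by norm_num) A.h4) Finset.univ Finset.card_univ g ?_ ?_
    · rw [A.X_univ]; trivial
    · rw [MonoidHom.comp_apply, hg, map_one]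
  · rw [← MonoidHom.range_eq_top]
    refine CfsgLib.Linear.sl_eq_top_of_transvections fun i j hij t => ⟨A.x i j t, ?_⟩
    obtain ⟨m0, m1⟩ := A.move_spec hij
    rw [x, map_mul, map_mul, map_inv, A.hφψ, A.hφρ 0 1 (by decide), permMat_tv _ _ _ (A.hp.ne (by decide)), m0, m1,
      tv, dif_neg hij]

end Amalgam

end CfsgLib.SLnPres
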