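import Cfsg.Agent.SLnPres.Basic
import Cfsg.Agent.SL3Pres.Presentation

/-!
# Facts on `SL₃`
-/

set_option autoImplicit false

namespace CfsgLib.SLnPres

open Matrix CfsgLib.SL2Pres CfsgLib.SL3Pres

variable {F : Type*} [Field F]

/-- The three-cycle as an even permutation. -/
def rot3 : alternatingGroup (Fin 3) :=
  ⟨Equiv.swap 0 1 * Equiv.swap 1 2, by rw [Equiv.Perm.mem_alternatingGroup]; decide⟩

theorem rot3_apply : ∀ a : Fin 3, (rot3 : Equiv.Perm (Fin 3)) a = a + 1 := by decide

theorem cC_eq_permMat : (cC : Matrix.SpecialLinearGroup (Fin 3) F) = permMat rot3 := by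
  apply Subtype.ext
  ext a b
  rw [coe_permMat, coe_cC]
  fin_cases a <;> fin_cases b <;> simp [rot3_apply, Fin.ext_iff]

theorem cC_tv (a b : Fin 3) (h : a ≠ b) (t : F) : cC * tv a b t * cC⁻¹ = tv (a + 1) (b + 1) t := by
  rw [cC_eq_permMat, permMat_tv _ _ _ h, rot3_apply, rot3_apply]

theorem emb_xU_eq (t : F) : emb (xU t) = tv (0 : Fin 3) 1 t := by
  apply Subtype.ext
  rw [coe_tv (by decide), coe_emb]
  ext a b
  fin_cases a <;> fin_cases b <;> simp [xU, Matrix.transvection, Matrix.single_apply]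

/-- Exchanging the first two coordinates. -/
def θ : Matrix.SpecialLinearGroup (Fin 3) F ≃* Matrix.SpecialLinearGroup (Fin 3) F :=
  CfsgLib.Linear.slReindex (Equiv.swap (0 : Fin 3) 1)

theorem coe_θ (g : Matrix.SpecialLinearGroup (Fin 3) F) :
    ((θ g : Matrix.SpecialLinearGroup (Fin 3) F) : Matrix (Fin 3) (Fin 3) F) =
      (g : Matrix (Fin 3) (Fin 3) F).submatrix (Equiv.swap 0 1) (Equiv.swap 0 1) := rfl

theorem θ_tv (a b : Fin 3) (h : a ≠ b) (t : F) :
    θ (tv a b t) = tv (Equiv.swap 0 1 a) (Equiv.swap 0 1 b) t := by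
  apply Subtype.ext
  rw [coe_θ, coe_tv h, coe_tv ((Equiv.swap (0 : Fin 3) 1).injective.ne h)]
  ext u v
  simp only [Matrix.submatrix_apply, Matrix.transvection, Matrix.add_apply, Matrix.one_apply, Matrix.single_apply,
    Equiv.apply_eq_iff_eq]
  congr 1
  exact if_congr (and_congr ⟨fun e => by simp [e], fun e => by simp [← e]⟩
    ⟨fun e => by simp [e], fun e => by simp [← e]⟩) rfl rfl

theorem θ_cC : θ cC = (cC : Matrix.SpecialLinearGroup (Fin 3) F)⁻¹ := by
  refine eq_inv_of_mul_eq_one_left (Subtype.ext ?_)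
  rw [Matrix.SpecialLinearGroup.coe_mul, coe_θ, coe_cC]
  ext a b
  fin_cases a <;> fin_cases b <;> simp [Matrix.mul_apply, Fin.sum_univ_three, Equiv.swap_apply_def]

theorem θ_hD (a : Fˣ) : θ (emb (hD a)) = (emb (hD a) : Matrix.SpecialLinearGroup (Fin 3) F)⁻¹ := by
  refine eq_inv_of_mul_eq_one_left (Subtype.ext ?_)
  rw [Matrix.SpecialLinearGroup.coe_mul, coe_θ, coe_emb]
  ext u v
  fin_cases u <;> fin_cases v <;> simp [hD, Matrix.mul_apply, Fin.sum_univ_three, Equiv.swap_apply_def]

theorem eq_top_of_shift {H : Subgroup (Matrix.SpecialLinearGroup (Fin 3) F)} (hc : cC ∈ H)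
    (h : ∀ t : F, tv 0 1 t ∈ H) : H = ⊤ := by
  have step : ∀ a b : Fin 3, a ≠ b → (∀ t : F, tv a b t ∈ H) → ∀ t : F, tv (a + 1) (b + 1) t ∈ H := fun a b hab hh t => by
    rw [← cC_tv a b hab]; exact mul_mem (mul_mem hc (hh t)) (inv_mem hc)
  have h12 := step 0 1 (by decide) h
  have h20 := step 1 2 (by decide) h12
  have h02 : ∀ t : F, tv 0 2 t ∈ H := fun t => by
    rw [← mul_one t, ← (stRel_SL (ι := Fin 3) (F := F) (by decide)).prod 0 1 2 (by decide) (by decide) (by decide) t 1]
    exact mul_mem (mul_mem (mul_mem (h t) (h12 1)) (inv_mem (h t))) (inv_mem (h12 1))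
  have h10 := step 0 2 (by decide) h02
  have h21 := step 1 0 (by decide) h10
  refine CfsgLib.Linear.sl_eq_top_of_transvections fun a b hab t => ?_
  rw [show Matrix.SpecialLinearGroup.transvection hab t = tv a b t by rw [tv, dif_neg hab]]
  fin_cases a <;> fin_cases b
  all_goals first
    | exact absurd rfl hab
    | exact h t
    | exact h12 t
    | exact h20 t
    | exact h02 t
    | exact h10 t
    | exact h21 t

theorem tv_scale {g : Matrix.SpecialLinearGroup (Fin 3) F} {d : Fin 3 → Fˣ}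
    (hg : (g : Matrix (Fin 3) (Fin 3) F) = Matrix.diagonal fun i => (d i : F)) {a b : Fin 3} (h : a ≠ b) (t : F) :
    g * tv a b t * g⁻¹ = tv a b ((d a : F) * t * ((d b)⁻¹ : Fˣ)) := by
  rw [mul_inv_eq_iff_eq_mul]
  apply Subtype.ext
  rw [Matrix.SpecialLinearGroup.coe_mul, Matrix.SpecialLinearGroup.coe_mul, coe_tv h, coe_tv h, hg]
  simp only [Matrix.transvection, mul_add, add_mul, mul_one, one_mul]
  congr 1
  ext u v
  rw [Matrix.diagonal_mul, Matrix.mul_diagonal]
  simp only [Matrix.single_apply]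
  split_ifs with hh
  · obtain ⟨rfl, rfl⟩ := hh
    rw [mul_assoc ((d a : F) * t), Units.inv_mul, mul_one]
  · simp

/-- `diag (a, a, a⁻²)`. -/
def dS (a : Fˣ) : Matrix.SpecialLinearGroup (Fin 3) F := emb (hD a) * dD (a ^ 2)

theorem coe_dS (a : Fˣ) : ((dS a : Matrix.SpecialLinearGroup (Fin 3) F) : Matrix (Fin 3) (Fin 3) F) =
    Matrix.diagonal fun i => ((![a, a, (a ^ 2)⁻¹] : Fin 3 → Fˣ) i : F) := by
  rw [dS, Matrix.SpecialLinearGroup.coe_mul, coe_emb, coe_dD]
  ext u v
  fin_cases u <;> fin_cases v <;> simp [hD, Matrix.mul_apply, Fin.sum_univ_three, Matrix.diagonal, pow_two]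

variable [Fintype F]

set_option maxHeartbeats 2000000 in
theorem exists_y (p : ℕ) [Fact p.Prime] [Algebra (ZMod p) F] (ω : Fˣ) (hω : orderOf ω = Fintype.card F - 1)
    (hgenω : ∀ t : F, t ≠ 0 → ∃ n : ℕ, t = (ω : F) ^ n) :
    ∃ y : Matrix.SpecialLinearGroup (Fin 3) F, Subgroup.closure {y, cC} = ⊤ := by
  have hS := stRel_SL (ι := Fin 3) (F := F) (by decide)
  by_cases h4 : Fintype.card F = 4
  · -- the field with four elements: explicit words
    have hp2 : p = 2 := by
      have hd : p ∣ 4 := by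
        rw [← h4, card_eq_pow (p := p) (F := F)]
        exact dvd_pow_self _ Module.finrank_pos.ne'
      exact (Nat.prime_dvd_prime_iff_eq Fact.out Nat.prime_two).1
        ((Fact.out : p.Prime).dvd_of_dvd_pow (show p ∣ 2 ^ 2 from hd))
    have h2 : (2 : F) = 0 := by
      have h : ((p : ℕ) : F) = 0 := by rw [← map_natCast (algebraMap (ZMod p) F), ZMod.natCast_self, map_zero]
      subst hp2
      simpa using h
    have hw : (ω : F) * (ω : F) = (ω : F) + 1 := by
      have h3 : (ω : F) ^ 3 = 1 := by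
        have := pow_orderOf_eq_one ω
        rw [hω, h4] at this
        simpa using congrArg Units.val this
      have h1 : (ω : F) - 1 ≠ 0 := fun e => by
        have : ω = 1 := Units.ext (sub_eq_zero.1 e)
        rw [this, orderOf_one, h4] at hω
        omega
      have : ((ω : F) - 1) * ((ω : F) * (ω : F) + (ω : F) + 1) = 0 := by linear_combination h3
      rcases mul_eq_zero.1 this with h | h
      · exact absurd h h1
      · linear_combination h - ((ω : F) + 1) * h2
    set c : Matrix.SpecialLinearGroup (Fin 3) F := cC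
    set y : Matrix.SpecialLinearGroup (Fin 3) F := tv 0 1 (ω : F) * tv 1 0 1 with hy
    refine ⟨y, ?_⟩
    set S := Subgroup.closure ({y, c} : Set (Matrix.SpecialLinearGroup (Fin 3) F))
    have hyS : y ∈ S := Subgroup.subset_closure (Or.inl rfl)
    have hcS : c ∈ S := Subgroup.subset_closure (Or.inr rfl)
    have cy : (y : Matrix (Fin 3) (Fin 3) F) = !![1 + (ω : F), (ω : F), 0; 1, 1, 0; 0, 0, 1] := by
      rw [hy, Matrix.SpecialLinearGroup.coe_mul, coe_tv (by decide), coe_tv (by decide)]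
      ext u v
      fin_cases u <;> fin_cases v <;>
        simp [Matrix.transvection, Matrix.single_apply, Matrix.mul_apply, Fin.sum_univ_three]
    have cY : ((y⁻¹ : Matrix.SpecialLinearGroup (Fin 3) F) : Matrix (Fin 3) (Fin 3) F) =
        !![1, (ω : F), 0; 1, 1 + (ω : F), 0; 0, 0, 1] := by
      rw [hy, _root_.mul_inv_rev, Matrix.SpecialLinearGroup.coe_mul]
      rw [show (tv 1 0 1 : Matrix.SpecialLinearGroup (Fin 3) F)⁻¹ = tv 1 0 (-1) from (SteinbergSLn.neg hS (by decide) 1).symm,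
        show (tv 0 1 (ω : F) : Matrix.SpecialLinearGroup (Fin 3) F)⁻¹ = tv 0 1 (-(ω : F)) from
          (SteinbergSLn.neg hS (by decide) (ω : F)).symm, coe_tv (by decide), coe_tv (by decide)]
      ext u v
      fin_cases u <;> fin_cases v <;>
        simp [Matrix.transvection, Matrix.single_apply, Matrix.mul_apply, Fin.sum_univ_three] <;>
        grind
    have cC2 : ((c⁻¹ : Matrix.SpecialLinearGroup (Fin 3) F) : Matrix (Fin 3) (Fin 3) F) = !![0, 1, 0; 0, 0, 1; 1, 0, 0] := by
      have e : c⁻¹ = c * c := inv_eq_of_mul_eq_one_right (by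
        have := cC_pow (F := F); rw [pow_succ, pow_two] at this; rw [← mul_assoc]; exact this)
      rw [e, Matrix.SpecialLinearGroup.coe_mul]
      ext u v
      fin_cases u <;> fin_cases v <;> simp [c, coe_cC, Matrix.mul_apply, Fin.sum_univ_three]
    have w1 : c * y * y * c⁻¹ * y * c * y⁻¹ * y⁻¹ * c * y * c = (tv 0 1 1 : Matrix.SpecialLinearGroup (Fin 3) F) := by
      apply Subtype.ext
      simp only [Matrix.SpecialLinearGroup.coe_mul, cy, cY, cC2, coe_tv (show (0 : Fin 3) ≠ 1 by decide)]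
      simp only [c, coe_cC]
      ext u v
      fin_cases u <;> fin_cases v <;>
        simp [Matrix.transvection, Matrix.single_apply, Matrix.mul_apply, Fin.sum_univ_three] <;> grind
    have w2 : y⁻¹ * c * y⁻¹ * c⁻¹ * y * c * y⁻¹ * c⁻¹ * y * c = (tv 0 1 (ω : F) : Matrix.SpecialLinearGroup (Fin 3) F) := by
      apply Subtype.ext
      simp only [Matrix.SpecialLinearGroup.coe_mul, cy, cY, cC2, coe_tv (show (0 : Fin 3) ≠ 1 by decide)]
      simp only [c, coe_cC]
      ext u v
      fin_cases u <;> fin_cases v <;>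
        simp [Matrix.transvection, Matrix.single_apply, Matrix.mul_apply, Fin.sum_univ_three] <;> grind
    refine eq_top_of_shift hcS fun t => ?_
    let A : AddSubgroup F :=
      { carrier := {s | tv 0 1 s ∈ S}
        zero_mem' := by simp [tv_zero]
        add_mem' := fun {a b} ha hb => by
          simp only [Set.mem_ofPred_eq] at *
          rw [hS.add 0 1 (by decide)]; exact mul_mem ha hb
        neg_mem' := fun {a} ha => by
          simp only [Set.mem_ofPred_eq] at *
          rw [SteinbergSLn.neg hS (by decide)]; exact inv_mem ha }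
    have hA1 : (1 : F) ∈ A := by
      show tv 0 1 1 ∈ S
      rw [← w1]; simp only [mul_mem_cancel_right, hyS, hcS, inv_mem hyS, inv_mem hcS]
    have hAω : (ω : F) ∈ A := by
      show tv 0 1 (ω : F) ∈ S
      rw [← w2]; simp only [mul_mem_cancel_right, hyS, hcS, inv_mem hyS, inv_mem hcS]
    show t ∈ A
    rcases eq_or_ne t 0 with rfl | ht
    · exact zero_mem A
    obtain ⟨n, rfl⟩ := hgenω t ht
    have hn : ∀ n : ℕ, (ω : F) ^ n ∈ A ∧ (ω : F) ^ (n + 1) ∈ A := by
      intro n
      induction n with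
      | zero => simp [hA1, hAω]
      | succ n ih =>
        refine ⟨ih.2, ?_⟩
        rw [show (ω : F) ^ (n + 1 + 1) = (ω : F) ^ n + (ω : F) ^ (n + 1) by
          rw [pow_succ, pow_succ, mul_assoc, hw]; ring]
        exact add_mem ih.1 ih.2
    exact (hn n).1
  · -- a transvection times a torus element commuting with it
    set d : Matrix.SpecialLinearGroup (Fin 3) F := dS ω
    set y := tv 0 1 (1 : F) * d with hy
    refine ⟨y, ?_⟩
    set S := Subgroup.closure ({y, cC} : Set (Matrix.SpecialLinearGroup (Fin 3) F))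
    have hyS : y ∈ S := Subgroup.subset_closure (Or.inl rfl)
    have hcS : (cC : Matrix.SpecialLinearGroup (Fin 3) F) ∈ S := Subgroup.subset_closure (Or.inr rfl)
    have hcomm : Commute (tv 0 1 (1 : F)) d := by
      have := tv_scale (coe_dS ω) (show (0 : Fin 3) ≠ 1 by decide) (1 : F)
      rw [mul_inv_eq_iff_eq_mul] at this
      simpa [Commute, SemiconjBy] using this.symm
    have hωq : ω ^ (Fintype.card F - 1) = 1 := hω ▸ pow_orderOf_eq_one ω
    have hdq : d ^ (Fintype.card F - 1) = 1 := by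
      apply Subtype.ext
      rw [Matrix.SpecialLinearGroup.coe_pow, coe_dS, Matrix.diagonal_pow, Matrix.SpecialLinearGroup.coe_one,
        Matrix.diagonal_eq_one]
      funext i
      have hωq2 : (ω ^ 2)⁻¹ ^ (Fintype.card F - 1) = 1 := by
        rw [inv_pow, ← pow_mul, mul_comm, pow_mul, hωq, one_pow, inv_one]
      rw [Pi.pow_apply, ← Units.val_pow_eq_pow_val]
      fin_cases i <;> simp [hωq, hωq2]
    have hpow : ∀ n : ℕ, (tv 0 1 (1 : F)) ^ n = (tv 0 1 (n : F) : Matrix.SpecialLinearGroup (Fin 3) F) := by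
      intro n
      induction n with
      | zero => simp [tv_zero]
      | succ n ih => rw [pow_succ, ih, ← hS.add 0 1 (by decide)]; simp
    have hu : tv 0 1 (1 : F) ∈ S := by
      have h1 : y ^ (Fintype.card F - 1) = (tv 0 1 (-1 : F) : Matrix.SpecialLinearGroup (Fin 3) F) := by
        rw [hy, hcomm.mul_pow, hdq, mul_one, hpow, Nat.cast_sub Fintype.card_pos, Nat.cast_card_eq_zero]
        simp
      have := inv_mem (pow_mem hyS (Fintype.card F - 1))
      rwa [h1, ← SteinbergSLn.neg hS (by decide), neg_neg] at this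
    have hd : d ∈ S := by
      have := mul_mem (inv_mem hu) hyS
      rwa [hy, inv_mul_cancel_left] at this
    let A : AddSubgroup F :=
      { carrier := {s | tv 0 1 s ∈ S}
        zero_mem' := by simp [tv_zero]
        add_mem' := fun {a b} ha hb => by
          simp only [Set.mem_ofPred_eq] at *
          rw [hS.add 0 1 (by decide)]; exact mul_mem ha hb
        neg_mem' := fun {a} ha => by
          simp only [Set.mem_ofPred_eq] at *
          rw [SteinbergSLn.neg hS (by decide)]; exact inv_mem ha }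
    refine eq_top_of_shift hcS fun t => SL3Pres.cubesSpan p ω hω h4 A (fun i => ?_) t
    -- the conjugated torus element multiplies by `ω ^ 3`
    have key : cC⁻¹ * d * cC * tv 0 1 (1 : F) * (cC⁻¹ * d * cC)⁻¹ = tv 0 1 ((ω : F) ^ 3) := by
      have e1 := tv_scale (coe_dS ω) (show (1 : Fin 3) ≠ 2 by decide) (1 : F)
      rw [show cC⁻¹ * d * cC * tv 0 1 (1 : F) * (cC⁻¹ * d * cC)⁻¹ =
        cC⁻¹ * (d * (cC * tv 0 1 (1 : F) * cC⁻¹) * d⁻¹) * cC by group, cC_tv 0 1 (by decide),
        show ((0 : Fin 3) + 1) = 1 from rfl, show ((1 : Fin 3) + 1) = 2 from rfl, e1,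
        show cC⁻¹ * tv 1 2 _ * cC = cC⁻¹ * (cC * tv 0 1 _ * cC⁻¹) * cC by rw [cC_tv 0 1 (by decide)]; rfl]
      simp [mul_assoc, pow_succ, inv_inv]
    have hpw : ∀ i : ℕ, (cC⁻¹ * d * cC) ^ i * tv 0 1 (1 : F) * ((cC⁻¹ * d * cC) ^ i)⁻¹ = tv 0 1 ((ω : F) ^ (3 * i)) := by
      have hg : ∀ s : F, cC⁻¹ * d * cC * tv 0 1 s * (cC⁻¹ * d * cC)⁻¹ = tv 0 1 ((ω : F) ^ 3 * s) := by
        intro s
        have e1 := tv_scale (coe_dS ω) (show (1 : Fin 3) ≠ 2 by decide) s
        rw [show cC⁻¹ * d * cC * tv 0 1 s * (cC⁻¹ * d * cC)⁻¹ =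
          cC⁻¹ * (d * (cC * tv 0 1 s * cC⁻¹) * d⁻¹) * cC by group, cC_tv 0 1 (by decide),
          show ((0 : Fin 3) + 1) = 1 from rfl, show ((1 : Fin 3) + 1) = 2 from rfl, e1,
          show cC⁻¹ * tv 1 2 _ * cC = cC⁻¹ * (cC * tv 0 1 _ * cC⁻¹) * cC by rw [cC_tv 0 1 (by decide)]; rfl]
        simp only [← mul_assoc, inv_mul_cancel, one_mul, inv_mul_cancel_right]
        congr 1
        simp [pow_succ]
        ring
      intro i
      induction i with
      | zero => simp
      | succ i ih =>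
        rw [pow_succ', _root_.mul_inv_rev, show cC⁻¹ * d * cC * (cC⁻¹ * d * cC) ^ i * tv 0 1 (1 : F) *
          (((cC⁻¹ * d * cC) ^ i)⁻¹ * (cC⁻¹ * d * cC)⁻¹) = cC⁻¹ * d * cC * ((cC⁻¹ * d * cC) ^ i * tv 0 1 (1 : F) *
          ((cC⁻¹ * d * cC) ^ i)⁻¹) * (cC⁻¹ * d * cC)⁻¹ by group, ih, hg, ← pow_add]
        congr 2
        ring
    show tv 0 1 _ ∈ S
    rw [← hpw]
    have hg : cC⁻¹ * d * cC ∈ S := mul_mem (mul_mem (inv_mem hcS) hd) hcS
    exact mul_mem (mul_mem (pow_mem hg i) hu) (inv_mem (pow_mem hg i))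

end CfsgLib.SLnPres
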