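import Cfsg.Agent.SLnPres.Engine
import Cfsg.Agent.SLnPres.Three

/-!
# Presentations of `SLₙ` from those of `SL₃` and `Aₙ`
-/

set_option autoImplicit false

namespace CfsgLib.SLnPres

open CfsgLib.BoundedAlt CfsgLib.SL2Pres CfsgLib.SL3Pres

variable {F : Type*} [Field F]

/-- The points. -/
abbrev Idx (r : ℕ) : Type := Fin 3 ⊕ Fin r

/-- The cycle on the first three points. -/
def cyc (r : ℕ) : alternatingGroup (Idx r) :=
  ⟨Equiv.sumCongr (rot3 : Equiv.Perm (Fin 3)) 1, by
    rw [Equiv.Perm.mem_alternatingGroup, Equiv.Perm.sign_sumCongr, map_one, mul_one]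
    exact Equiv.Perm.mem_alternatingGroup.1 rot3.2⟩

theorem cyc_inl (r : ℕ) (a : Fin 3) : (cyc r : Equiv.Perm (Idx r)) (Sum.inl a) = Sum.inl (a + 1) := by
  show Sum.inl ((rot3 : Equiv.Perm (Fin 3)) a) = _
  rw [rot3_apply]

theorem cyc_eq (r : ℕ) : (cyc r : Equiv.Perm (Idx r)) = cyc3 (Sum.inl 0) (Sum.inl 1) (Sum.inl 2) := by
  ext z : 1
  rcases z with a | i
  · rw [cyc_inl]
    fin_cases a <;> simp [cyc3, Equiv.swap_apply_def]
  · show Sum.inr i = _
    simp [cyc3, Equiv.swap_apply_def]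

theorem blockEmb_cC (r : ℕ) :
    (blockEmb (cC : Matrix.SpecialLinearGroup (Fin 3) F) : Matrix.SpecialLinearGroup (Idx r) F) = permMat (cyc r) := by
  rw [cC_eq_permMat]
  apply Subtype.ext
  ext u v
  rw [coe_permMat]
  show Matrix.fromBlocks (permMat rot3 : Matrix.SpecialLinearGroup (Fin 3) F).1 0 0 1 u v = _
  rcases u with a | i <;> rcases v with b | j
  · simp [coe_permMat, cyc]
  · simp [cyc]
  · simp [cyc]
  · simp [cyc, Matrix.one_apply, eq_comm]

variable (F) in
/-- A gluing relation. -/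
inductive Glue (r : ℕ) where
  /-- `g` maps `z` to `z'`. -/
  | conj (g : alternatingGroup (Idx r)) (z z' : Matrix.SpecialLinearGroup (Fin 3) F)
  /-- `z` commutes with a moved root element. -/
  | far (z : Matrix.SpecialLinearGroup (Fin 3) F) (τ : alternatingGroup (Idx r))

/-- The relation holds. -/
def Glue.Holds {r : ℕ} {G : Type*} [Group G] (ρ : Matrix.SpecialLinearGroup (Fin 3) F →* G)
    (ψ : alternatingGroup (Idx r) →* G) : Glue F r → Prop
  | .conj g z z' => ψ g * ρ z * (ψ g)⁻¹ = ρ z'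
  | .far z τ => ρ z * (ψ τ * ρ (tv 0 1 1) * (ψ τ)⁻¹) = ψ τ * ρ (tv 0 1 1) * (ψ τ)⁻¹ * ρ z

/-- What the relations have to give. -/
def GlueEnough (r : ℕ) (E : List (Glue F r)) : Prop :=
  ∀ {G : Type} [Group G] (ρ : Matrix.SpecialLinearGroup (Fin 3) F →* G) (ψ : alternatingGroup (Idx r) →* G),
    ρ cC = ψ (cyc r) → (∀ e ∈ E, e.Holds ρ ψ) →
    (∀ σ : alternatingGroup (Idx r), (σ : Equiv.Perm (Idx r)) (Sum.inl 0) = Sum.inl 0 →
      (σ : Equiv.Perm (Idx r)) (Sum.inl 1) = Sum.inl 1 → ∀ t, ψ σ * ρ (tv 0 1 t) * (ψ σ)⁻¹ = ρ (tv 0 1 t)) ∧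
    (∃ σ : alternatingGroup (Idx r), (σ : Equiv.Perm (Idx r)) (Sum.inl 0) = Sum.inl 1 ∧
      (σ : Equiv.Perm (Idx r)) (Sum.inl 1) = Sum.inl 0 ∧ ∀ t, ψ σ * ρ (tv 0 1 t) * (ψ σ)⁻¹ = ρ (tv 1 0 t)) ∧
    (∃ σ : alternatingGroup (Idx r), (∀ a, a = 0 ∨ a = 1 → ∀ b, b = 0 ∨ b = 1 →
        (σ : Equiv.Perm (Idx r)) (Sum.inl a) ≠ Sum.inl b) ∧
      ∀ s, Commute (ρ (tv 0 1 s)) (ψ σ * ρ (tv 0 1 1) * (ψ σ)⁻¹))

/-- The relator of a gluing relation. -/
def Glue.relator {r : ℕ} {M : Type*} [Group M] (s : Matrix.SpecialLinearGroup (Fin 3) F → M)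
    (a : alternatingGroup (Idx r) → M) : Glue F r → M
  | .conj g z z' => a g * s z * (a g)⁻¹ * (s z')⁻¹
  | .far z τ => s z * (a τ * s (tv 0 1 1) * (a τ)⁻¹) * (a τ * s (tv 0 1 1) * (a τ)⁻¹ * s z)⁻¹

theorem Glue.relator_iff {r : ℕ} {M H : Type*} [Group M] [Group H] {s : Matrix.SpecialLinearGroup (Fin 3) F → M}
    {a : alternatingGroup (Idx r) → M} (f : M →* H) (ρ : Matrix.SpecialLinearGroup (Fin 3) F →* H)
    (ψ : alternatingGroup (Idx r) →* H) (hs : ∀ z, f (s z) = ρ z) (ha : ∀ σ, f (a σ) = ψ σ) (e : Glue F r) :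
    f (e.relator s a) = 1 ↔ e.Holds ρ ψ := by
  cases e <;> simp only [Glue.relator, Glue.Holds, map_mul, map_inv, hs, ha] <;> exact mul_inv_eq_one

variable [Fintype F]

/-- The presentation from the parts. -/
theorem exists_of_parts (p : ℕ) [Fact p.Prime] [Algebra (ZMod p) F] {m r : ℕ} (hr : 1 ≤ r)
    (relsA : Finset (FreeGroup (Fin m)))
    (eA : PresentedGroup (↑relsA : Set (FreeGroup (Fin m))) ≃* alternatingGroup (Idx r)) (ω : Fˣ)
    (rels3 : Finset (FreeGroup (Fin 4))) (hc3 : rels3.card ≤ 14) (hgc : gc ^ 3 ∈ rels3)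
    (e3 : PresentedGroup (↑rels3 : Set (FreeGroup (Fin 4))) ≃* Matrix.SpecialLinearGroup (Fin 3) F)
    (he3 : ∀ i, e3 (PresentedGroup.of i) = gens ω i)
    (E : List (Glue F r)) (hvalid : ∀ e ∈ E, e.Holds (blockEmb) permMat) (hE : GlueEnough r E) :
    ∃ rels : Finset (FreeGroup (Fin (3 + m))), rels.card ≤ 13 + relsA.card + E.length ∧
      Nonempty (PresentedGroup (↑rels : Set (FreeGroup (Fin (3 + m)))) ≃* Matrix.SpecialLinearGroup (Fin (3 + r)) F) := by
  classical
  -- words
  choose wA hwA using fun σ => PresentedGroup.mk_surjective (↑relsA : Set (FreeGroup (Fin m))) (eA.symm σ)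
  choose wS hwS using fun z => PresentedGroup.mk_surjective (↑rels3 : Set (FreeGroup (Fin 4))) (e3.symm z)
  let JA : FreeGroup (Fin m) →* FreeGroup (Fin (3 + m)) := FreeGroup.lift fun j => FreeGroup.of (Fin.natAdd 3 j)
  let j3 : Fin 4 → FreeGroup (Fin (3 + m)) :=
    ![FreeGroup.of (Fin.castAdd m 0), FreeGroup.of (Fin.castAdd m 1), FreeGroup.of (Fin.castAdd m 2), JA (wA (cyc r))]
  let J3 : FreeGroup (Fin 4) →* FreeGroup (Fin (3 + m)) := FreeGroup.lift j3
  let wordG : Glue F r → FreeGroup (Fin (3 + m)) := Glue.relator (fun z => J3 (wS z)) (fun σ => JA (wA σ))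
  set rels : Finset (FreeGroup (Fin (3 + m))) :=
    (rels3.erase (gc ^ 3)).image J3 ∪ (relsA.image JA ∪ (E.map wordG).toFinset)
  have hcard : rels.card ≤ 13 + relsA.card + E.length := by
    refine (Finset.card_union_le _ _).trans ?_
    have h1 : ((rels3.erase (gc ^ 3)).image J3).card ≤ 13 := by
      refine Finset.card_image_le.trans ?_
      rw [Finset.card_erase_of_mem hgc]
      omega
    have h2 : (relsA.image JA ∪ (E.map wordG).toFinset).card ≤ relsA.card + E.length :=
      (Finset.card_union_le _ _).trans (Nat.add_le_add Finset.card_image_le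
        ((List.toFinset_card_le _).trans_eq (List.length_map ..)))
    omega
  -- a map killing the relators gives the two homs
  have homs : ∀ {H : Type} [Group H] (f : FreeGroup (Fin (3 + m)) →* H), (∀ r₀ ∈ relsA, f (JA r₀) = 1) →
      (∀ r₀ ∈ rels3.erase (gc ^ 3), f (J3 r₀) = 1) →
      ∃ (ρ : Matrix.SpecialLinearGroup (Fin 3) F →* H) (ψ : alternatingGroup (Idx r) →* H),
        (∀ w, f (J3 w) = ρ (e3 (PresentedGroup.mk _ w))) ∧ (∀ w, f (JA w) = ψ (eA (PresentedGroup.mk _ w))) ∧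
        ρ cC = ψ (cyc r) := by
    intro H _ f hfA hf3
    have hA : ∀ w ∈ (↑relsA : Set (FreeGroup (Fin m))), FreeGroup.lift (fun j => f (FreeGroup.of (Fin.natAdd 3 j))) w = 1 := by
      intro w hw
      rw [show FreeGroup.lift (fun j => f (FreeGroup.of (Fin.natAdd 3 j))) = f.comp JA by ext j; simp [JA]]
      exact hfA w hw
    let ψ := (PresentedGroup.toGroup hA).comp eA.symm.toMonoidHom
    have hψ : ∀ w, f (JA w) = ψ (eA (PresentedGroup.mk _ w)) := by
      intro w
      simp only [ψ, MonoidHom.comp_apply, MulEquiv.coe_toMonoidHom, MulEquiv.symm_apply_apply]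
      exact (DFunLike.congr_fun (show (PresentedGroup.toGroup hA).comp (PresentedGroup.mk _) = f.comp JA by
        ext j
        simpa [JA, PresentedGroup.of] using PresentedGroup.toGroup.of hA (x := j)) w).symm
    have hcw : f (J3 gc) = ψ (cyc r) := by
      have : J3 gc = JA (wA (cyc r)) := by simp [J3, j3, gc]
      rw [this, hψ, hwA, MulEquiv.apply_symm_apply]
    have hcube : (cyc r) ^ 3 = 1 := by
      apply Subtype.ext
      show (cyc r : Equiv.Perm (Idx r)) ^ 3 = 1
      ext z : 1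
      rw [pow_three, Equiv.Perm.mul_apply, Equiv.Perm.mul_apply, Equiv.Perm.one_apply]
      rcases z with a | i
      · rw [cyc_inl, cyc_inl, cyc_inl]; congr 1; fin_cases a <;> rfl
      · rfl
    have h3 : ∀ w ∈ (↑rels3 : Set (FreeGroup (Fin 4))), FreeGroup.lift (fun i => f (j3 i)) w = 1 := by
      intro w hw
      rw [show FreeGroup.lift (fun i => f (j3 i)) = f.comp J3 by ext i; simp [J3], MonoidHom.comp_apply]
      by_cases hwc : w = gc ^ 3
      · rw [hwc, map_pow, map_pow, hcw, ← map_pow, hcube, map_one]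
      · exact hf3 w (Finset.mem_erase.2 ⟨hwc, hw⟩)
    let ρ := (PresentedGroup.toGroup h3).comp e3.symm.toMonoidHom
    have hρ : ∀ w, f (J3 w) = ρ (e3 (PresentedGroup.mk _ w)) := by
      intro w
      simp only [ρ, MonoidHom.comp_apply, MulEquiv.coe_toMonoidHom, MulEquiv.symm_apply_apply]
      exact (DFunLike.congr_fun (show (PresentedGroup.toGroup h3).comp (PresentedGroup.mk _) = f.comp J3 by
        ext i
        simpa [J3, PresentedGroup.of] using PresentedGroup.toGroup.of h3 (x := i)) w).symm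
    refine ⟨ρ, ψ, hρ, hψ, ?_⟩
    rw [← hcw, hρ]
    exact congrArg ρ ((he3 3).symm.trans rfl)
  -- the target
  let g0 : Fin (3 + m) → Matrix.SpecialLinearGroup (Idx r) F :=
    Fin.append (fun i => blockEmb (gens ω i.castSucc)) (fun j => permMat (eA (PresentedGroup.of j)))
  have h0A : ∀ w, FreeGroup.lift g0 (JA w) = permMat (eA (PresentedGroup.mk _ w)) := fun w =>
    DFunLike.congr_fun (show (FreeGroup.lift g0).comp JA = (permMat.comp eA.toMonoidHom).comp (PresentedGroup.mk _) by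
      ext j : 1
      simp [JA, g0, PresentedGroup.of]) w
  have h03 : ∀ w, FreeGroup.lift g0 (J3 w) = blockEmb (e3 (PresentedGroup.mk _ w)) := fun w =>
    DFunLike.congr_fun (show (FreeGroup.lift g0).comp J3 = (blockEmb.comp e3.toMonoidHom).comp (PresentedGroup.mk _) by
      ext i : 1
      simp only [MonoidHom.comp_apply, MulEquiv.coe_toMonoidHom]
      rw [show PresentedGroup.mk (↑rels3 : Set (FreeGroup (Fin 4))) (FreeGroup.of i) = PresentedGroup.of i from rfl, he3]
      fin_cases i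
      · simp [J3, j3, g0]
      · simp [J3, j3, g0]
      · simp [J3, j3, g0]
      · show FreeGroup.lift g0 (J3 gc) = blockEmb (gens ω 3)
        rw [show J3 gc = JA (wA (cyc r)) by simp [J3, j3, gc], h0A, hwA, MulEquiv.apply_symm_apply, ← blockEmb_cC]
        simp [gens]) w
  have hrel : ∀ w ∈ (↑rels : Set (FreeGroup (Fin (3 + m)))), FreeGroup.lift g0 w = 1 := by
    intro w hw
    simp only [rels, Finset.mem_coe, Finset.mem_union, Finset.mem_image, List.mem_toFinset, List.mem_map] at hw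
    rcases hw with ⟨v, hv, rfl⟩ | ⟨v, hv, rfl⟩ | ⟨e, he, rfl⟩
    · rw [h03, PresentedGroup.one_of_mem (Finset.mem_coe.2 (Finset.mem_of_mem_erase hv)), map_one, map_one]
    · rw [h0A, PresentedGroup.one_of_mem (Finset.mem_coe.2 hv), map_one, map_one]
    · exact (Glue.relator_iff _ _ _ (fun z => by rw [h03, hwS, MulEquiv.apply_symm_apply])
        (fun σ => by rw [h0A, hwA, MulEquiv.apply_symm_apply]) e).2 (hvalid e he)
  let φ := PresentedGroup.toGroup hrel
  let mk := PresentedGroup.mk (↑rels : Set (FreeGroup (Fin (3 + m))))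
  obtain ⟨ρ, ψ, hρ, hψ, hc⟩ := homs mk
    (fun v hv => PresentedGroup.one_of_mem (Finset.mem_coe.2
      (Finset.mem_union_right _ (Finset.mem_union_left _ (Finset.mem_image_of_mem _ hv)))))
    (fun v hv => PresentedGroup.one_of_mem (Finset.mem_coe.2
      (Finset.mem_union_left _ (Finset.mem_image_of_mem _ hv))))
  obtain ⟨hfix, hswap, hfar⟩ := hE ρ ψ hc fun e he => (Glue.relator_iff mk ρ ψ
      (fun z => by rw [hρ, hwS, MulEquiv.apply_symm_apply]) (fun σ => by rw [hψ, hwA, MulEquiv.apply_symm_apply]) e).1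
    (PresentedGroup.one_of_mem (Finset.mem_coe.2
      (Finset.mem_union_right _ (Finset.mem_union_right _ (List.mem_toFinset.2 (List.mem_map.2 ⟨e, he, rfl⟩))))))
  have hφ : φ.comp mk = FreeGroup.lift g0 := by
    ext i : 1
    rw [MonoidHom.comp_apply, FreeGroup.lift_apply_of]
    exact PresentedGroup.toGroup.of hrel
  have hφρ : ∀ z, φ (ρ z) = blockEmb z := fun z => by
    obtain ⟨w, hw⟩ := PresentedGroup.mk_surjective _ (e3.symm z)
    have : z = e3 (PresentedGroup.mk _ w) := by rw [hw, MulEquiv.apply_symm_apply]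
    rw [this, ← hρ, ← MonoidHom.comp_apply, hφ, h03]
  have hφψ : ∀ σ, φ (ψ σ) = permMat σ := fun σ => by
    obtain ⟨w, hw⟩ := PresentedGroup.mk_surjective _ (eA.symm σ)
    have : σ = eA (PresentedGroup.mk _ w) := by rw [hw, MulEquiv.apply_symm_apply]
    rw [this, ← hψ, ← MonoidHom.comp_apply, hφ, h0A]
  let A : Amalgam (PresentedGroup (↑rels : Set (FreeGroup (Fin (3 + m))))) F (Idx r) :=
    { p := Sum.inl
      hp := Sum.inl_injective
      h4 := by simp; omega
      ρ := ρ, ψ := ψ, φ := φ, c := cC, c' := cyc r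
      hc := hc
      hcp := cyc_inl r
      hcc := cyc_eq r
      hctv := cC_tv
      hfix := hfix, hswap := hswap, hfar := hfar
      hφρ := fun a b h t => by rw [hφρ, blockEmb_tv h]
      hφψ := hφψ
      hgen := by
        rw [eq_top_iff, ← PresentedGroup.closure_range_of, Subgroup.closure_le]
        rintro _ ⟨i, rfl⟩
        refine Fin.addCases (fun i => ?_) (fun j => ?_) i
        · refine Subgroup.mem_sup_left ⟨gens ω i.castSucc, ?_⟩
          have h := hρ (FreeGroup.of i.castSucc)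
          rw [show PresentedGroup.mk (↑rels3 : Set (FreeGroup (Fin 4))) (FreeGroup.of i.castSucc) =
            PresentedGroup.of i.castSucc from rfl, he3] at h
          rw [← h]
          fin_cases i <;> simp [J3, j3, mk, PresentedGroup.of]
        · refine Subgroup.mem_sup_right ⟨eA (PresentedGroup.of j), ?_⟩
          rw [show PresentedGroup.of j = PresentedGroup.mk _ (FreeGroup.of j) from rfl, ← hψ]
          simp [JA, mk, PresentedGroup.of] }
  have hbij : Function.Bijective φ := A.bijective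
  exact ⟨rels, hcard, ⟨(MulEquiv.ofBijective φ hbij).trans (CfsgLib.Linear.slReindex finSumFinEquiv)⟩⟩

end CfsgLib.SLnPres
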